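import Groth.Agent.Rigid.Over
import Groth.Agent.GrpField.Range
import Groth.Agent.GrpField.Irreducible
import Groth.Agent.GeomConn.Basic
import Groth.Agent.Assoc.Reduced
import Groth.Agent.RedKer.Basic
import Mathlib.AlgebraicGeometry.Morphisms.Proper

/-!
# Translations and fibres of morphisms out of proper group schemes over a field
-/

universe u

open CategoryTheory CategoryTheory.Limits MonoidalCategory CartesianMonoidalCategory MonObj AlgebraicGeometry TopologicalSpace

namespace Groth.Agent.Rigid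

variable {k : Type u} [Field k]

/-- A connected scheme with a rational point is geometrically connected. -/
theorem geometricallyConnected_of_section {X : Scheme.{u}} (f : X ⟶ Spec (CommRingCat.of k)) [ConnectedSpace X]
    (p : Spec (CommRingCat.of k) ⟶ X) (hp : p ≫ f = 𝟙 _) : GeometricallyConnected f := by
  set_option backward.isDefEq.respectTransparency false in
  refine ⟨geometrically_iff_of_commRing.2 fun K _ _ Z fst snd hZ => ?_⟩
  have hD := (Groth.Agent.GrpField.subsingleton_preimage_section f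
    (Spec.map (CommRingCat.ofHom (algebraMap k (AlgebraicClosure k)))) p hp
    (IsLocalRing.closedPoint k)).isPreconnected
  have h := Groth.Agent.GeomConn.isConnected_preimage_of_fibre (K := K) f isClosed_univ
    (connectedSpace_iff_univ.1 ‹ConnectedSpace X›) (z := p (IsLocalRing.closedPoint k)) trivial hD
    (fun _ _ => trivial) subset_rfl
  rw [Set.preimage_univ] at h
  exact hZ.isoPullback.hom.homeomorph.connectedSpace_iff.2 (connectedSpace_iff_univ.2 h)

/-- A reduced scheme over a perfect field is geometrically reduced. -/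
theorem geometricallyReduced_of_perfect [PerfectField k] {X : Scheme.{u}} (f : X ⟶ Spec (CommRingCat.of k))
    [IsReduced X] : GeometricallyReduced f := by
  refine ⟨fun K _ y Z p q h => ?_⟩
  haveI := Groth.Agent.Assoc.isReduced_pullback k f y
  exact isReduced_of_isOpenImmersion h.isoPullback.hom

variable {X : Over (Spec (CommRingCat.of k))} [GrpObj X]

/-- Left translation by a rational point. -/
noncomputable def ltr (x : 𝟙_ (Over (Spec (CommRingCat.of k))) ⟶ X) : X ⟶ X :=
  lift (toUnit X ≫ x) (𝟙 X) ≫ μ[X]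

theorem ltr_eq (x : 𝟙_ (Over (Spec (CommRingCat.of k))) ⟶ X) : ltr x = (toUnit X ≫ x) * 𝟙 X := rfl

theorem ltr_comp (x y : 𝟙_ (Over (Spec (CommRingCat.of k))) ⟶ X) : y ≫ ltr x = x * y := by
  rw [ltr_eq, MonObj.comp_mul, comp_toUnit_assoc, Category.comp_id]
  simp

theorem ltr_mul (x y : 𝟙_ (Over (Spec (CommRingCat.of k))) ⟶ X) : ltr y ≫ ltr x = ltr (x * y) := by
  rw [ltr_eq x, MonObj.comp_mul, comp_toUnit_assoc, Category.comp_id, ltr_eq (x * y), ltr_eq y,
    MonObj.comp_mul, _root_.mul_assoc]

theorem ltr_one : ltr (1 : 𝟙_ (Over (Spec (CommRingCat.of k))) ⟶ X) = 𝟙 X := by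
  rw [ltr_eq, MonObj.comp_one, _root_.one_mul]

/-- The underlying homeomorphism of a translation. -/
noncomputable def ltrHomeo (x : 𝟙_ (Over (Spec (CommRingCat.of k))) ⟶ X) : X.left ≃ₜ X.left where
  toFun := (ltr x).left
  invFun := (ltr x⁻¹).left
  left_inv z := by
    rw [← Scheme.Hom.comp_apply, ← Over.comp_left, ltr_mul, inv_mul_cancel, ltr_one]; rfl
  right_inv z := by
    rw [← Scheme.Hom.comp_apply, ← Over.comp_left, ltr_mul, mul_inv_cancel, ltr_one]; rfl
  continuous_toFun := (ltr x).left.continuous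
  continuous_invFun := (ltr x⁻¹).left.continuous

/-- The point of a rational point. -/
noncomputable abbrev ptOf (x : 𝟙_ (Over (Spec (CommRingCat.of k))) ⟶ X) : X.left :=
  x.left (IsLocalRing.closedPoint k)

theorem ltr_ptOf (x y : 𝟙_ (Over (Spec (CommRingCat.of k))) ⟶ X) : (ltr x).left (ptOf y) = ptOf (x * y) := by
  rw [← ltr_comp x y, ptOf, ptOf, ← Scheme.Hom.comp_apply, ← Over.comp_left]

omit [GrpObj X] in
theorem isClosed_ptOf [IsSeparated X.hom] (x : 𝟙_ (Over (Spec (CommRingCat.of k))) ⟶ X) :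
    IsClosed ({ptOf x} : Set X.left) := by
  haveI : IsClosedImmersion (x.left ≫ X.hom) := by
    rw [Over.w x]; exact inferInstanceAs (IsClosedImmersion (𝟙 _))
  haveI : IsClosedImmersion x.left := IsClosedImmersion.of_comp _ X.hom
  haveI : Subsingleton (Spec (CommRingCat.of k)) := inferInstanceAs (Subsingleton (PrimeSpectrum k))
  convert x.left.isClosedEmbedding.isClosed_range
  ext y
  exact ⟨fun h => ⟨IsLocalRing.closedPoint k, h.symm⟩,
    fun ⟨t, ht⟩ => ht ▸ congrArg x.left (Subsingleton.elim (α := Spec (CommRingCat.of k)) t _)⟩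

variable [IsProper X.hom] [ConnectedSpace X.left] {Y : Scheme.{u}} (q : Y ⟶ Spec (CommRingCat.of k))
  [IsSeparated q] (f : X.left ⟶ Y) (hf : f ≫ q = X.hom)

include hf

/-- **Translates of a collapsed family are collapsed.** -/
theorem image_ltr_subsingleton {W : Over (Spec (CommRingCat.of k))} [IsProper W.hom]
    [Nonempty W.left] (hW : GoodFibres W.hom) (i : W ⟶ X)
    (hi : ∀ v w : W.left, f (i.left v) = f (i.left w)) (x : 𝟙_ (Over (Spec (CommRingCat.of k))) ⟶ X) :
    (f '' ((ltr x).left '' Set.range i.left)).Subsingleton := by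
  let S : Scheme.{u} := Spec (CommRingCat.of k)
  haveI : Subsingleton S := inferInstanceAs (Subsingleton (PrimeSpectrum k))
  let g := (snd W X).left
  haveI : IsProper g := inferInstanceAs (IsProper (pullback.snd W.hom X.hom))
  haveI : Flat W.hom := inferInstance
  haveI : Flat g := inferInstanceAs (Flat (pullback.snd W.hom X.hom))
  haveI : LocallyOfFinitePresentation W.hom := inferInstance
  haveI : LocallyOfFinitePresentation g :=
    inferInstanceAs (LocallyOfFinitePresentation (pullback.snd W.hom X.hom))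
  haveI : Surjective W.hom := ⟨fun s => ⟨Classical.arbitrary W.left, Subsingleton.elim (α := S) _ _⟩⟩
  haveI : Surjective g := inferInstanceAs (Surjective (pullback.snd W.hom X.hom))
  let φ : W ⊗ X ⟶ X := lift (snd W X) (fst W X ≫ i) ≫ μ[X]
  have hφ : ∀ c : 𝟙_ (Over S) ⟶ X, lift (𝟙 W) (toUnit W ≫ c) ≫ φ = i ≫ ltr c := by
    intro c
    rw [show φ = snd W X * (fst W X ≫ i) from rfl, MonObj.comp_mul, lift_snd, ← Category.assoc, lift_fst,
      Category.id_comp, ltr_eq, MonObj.comp_mul, comp_toUnit_assoc, Category.comp_id]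
  obtain ⟨U, hUc, hU, -⟩ := exists_clopen_factor g (hW.of_isPullback (IsPullback.of_hasPullback W.hom X.hom))
    X.hom q (φ.left ≫ f) (by rw [Category.assoc, hf, Over.w φ, Over.w (snd W X)])
  have hone : ptOf (1 : 𝟙_ (Over S) ⟶ X) ∈ U := (hU _).2 (by
    rintro _ ⟨w, hw, rfl⟩ _ ⟨w', hw', rfl⟩
    obtain ⟨v, rfl⟩ := exists_lift_of_snd (1 : 𝟙_ (Over S) ⟶ X) w _ hw
    obtain ⟨v', rfl⟩ := exists_lift_of_snd (1 : 𝟙_ (Over S) ⟶ X) w' _ hw'
    have e : ∀ v : W.left, (φ.left ≫ f) ((lift (𝟙 W) (toUnit W ≫ (1 : 𝟙_ (Over S) ⟶ X))).left v) = f (i.left v) := by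
      intro v
      rw [← Scheme.Hom.comp_apply, ← Category.assoc, ← Over.comp_left, hφ, ltr_one, Category.comp_id,
        Scheme.Hom.comp_apply]
    rw [e, e]
    exact hi v v')
  have htop : (U : Set X.left) = Set.univ :=
    (isClopen_iff.1 ⟨hUc, U.2⟩).resolve_left (Set.nonempty_iff_ne_empty.1 ⟨_, hone⟩)
  have hx := (hU (ptOf x)).1 (Set.eq_univ_iff_forall.1 htop _)
  refine hx.anti ?_
  rintro _ ⟨_, ⟨_, ⟨v, rfl⟩, rfl⟩, rfl⟩
  refine ⟨(lift (𝟙 W) (toUnit W ≫ x)).left v, ?_, ?_⟩
  · change g _ = ptOf x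
    rw [← Scheme.Hom.comp_apply, ← Over.comp_left, lift_snd, Over.comp_left, Scheme.Hom.comp_apply, ptOf]
    exact congrArg x.left (Subsingleton.elim (α := S) _ _)
  · rw [← Scheme.Hom.comp_apply, ← Category.assoc, ← Over.comp_left, hφ, Over.comp_left,
      Scheme.Hom.comp_apply, Scheme.Hom.comp_apply]

/-- The connected component of a rational point in its fibre. -/
def fibComp (x : 𝟙_ (Over (Spec (CommRingCat.of k))) ⟶ X) : Set X.left :=
  connectedComponentIn (f ⁻¹' {f (ptOf x)}) (ptOf x)

theorem isClosed_fibre_ptOf (x : 𝟙_ (Over (Spec (CommRingCat.of k))) ⟶ X) :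
    IsClosed (f ⁻¹' {f (ptOf x)}) := by
  haveI : IsProper (f ≫ q) := by rw [hf]; infer_instance
  haveI : IsProper f := IsProper.of_comp f q
  have h := f.isClosedMap _ (isClosed_ptOf x)
  rw [Set.image_singleton] at h
  exact h.preimage f.continuous

variable [PerfectField k]

/-- A translate of the component of the origin lies in a fibre. -/
theorem ltr_image_fibComp_subset (x : 𝟙_ (Over (Spec (CommRingCat.of k))) ⟶ X) :
    (ltr x).left '' fibComp f (1 : 𝟙_ (Over (Spec (CommRingCat.of k))) ⟶ X) ⊆ fibComp f x := by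
  let o : 𝟙_ (Over (Spec (CommRingCat.of k))) ⟶ X := 1
  have hmem : ptOf o ∈ fibComp f o := mem_connectedComponentIn rfl
  have hcl : IsClosed (fibComp f o) :=
    by
      rw [fibComp, connectedComponentIn_eq_image (show ptOf o ∈ f ⁻¹' {f (ptOf o)} from rfl)]
      exact (isClosed_fibre_ptOf q f hf o).isClosedEmbedding_subtypeVal.isClosedMap _ isClosed_connectedComponent
  let I := Scheme.IdealSheafData.vanishingIdeal (X := X.left) ⟨fibComp f o, hcl⟩
  let W : Over (Spec (CommRingCat.of k)) := Over.mk (I.subschemeι ≫ X.hom)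
  let i : W ⟶ X := Over.homMk I.subschemeι rfl
  have hr : Set.range i.left = fibComp f o := by
    change Set.range I.subschemeι = _
    rw [Scheme.IdealSheafData.range_subschemeι, Scheme.IdealSheafData.coe_support_vanishingIdeal]
    rfl
  haveI : IsClosedImmersion i.left := inferInstanceAs (IsClosedImmersion I.subschemeι)
  haveI : IsProper W.hom := inferInstanceAs (IsProper (I.subschemeι ≫ X.hom))
  haveI : IsReduced W.left := Groth.Agent.GrpField.isReduced_vanishingIdeal (H := X) ⟨fibComp f o, hcl⟩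
  haveI : Nonempty W.left := ⟨(Set.mem_range.1 (hr.symm ▸ hmem)).choose⟩
  haveI : ConnectedSpace W.left := by
    rw [connectedSpace_iff_univ]
    refine ⟨Set.univ_nonempty, i.left.isClosedEmbedding.isInducing.isPreconnected_image.1 ?_⟩
    rw [Set.image_univ, hr]
    exact isPreconnected_connectedComponentIn
  have hrange : Set.range o.left ⊆ Set.range I.subschemeι := by
    rintro _ ⟨t, rfl⟩
    haveI : Subsingleton (Spec (CommRingCat.of k)) := inferInstanceAs (Subsingleton (PrimeSpectrum k))
    rw [Subsingleton.elim (α := Spec (CommRingCat.of k)) t (IsLocalRing.closedPoint k)]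
    exact hr.symm ▸ hmem
  obtain ⟨p, hp⟩ : ∃ p : Spec (CommRingCat.of k) ⟶ W.left, p ≫ I.subschemeι = o.left := by
    haveI : IsReduced (Spec (CommRingCat.of k)) := inferInstance
    exact ⟨IsClosedImmersion.lift I.subschemeι o.left (by
        rw [Scheme.IdealSheafData.ker_subschemeι]
        refine Groth.Agent.RedKer.vanishingIdeal_le_ker _ _ ?_
        exact hrange.trans hr.le),
      IsClosedImmersion.lift_fac _ _ _⟩
  have hps : p ≫ W.hom = 𝟙 _ := by
    change p ≫ I.subschemeι ≫ X.hom = _
    rw [← Category.assoc, hp, Over.w o]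
    rfl
  haveI := geometricallyConnected_of_section W.hom p hps
  haveI := geometricallyReduced_of_perfect W.hom
  have hfib : fibComp f o ⊆ f ⁻¹' {f (ptOf o)} := connectedComponentIn_subset _ _
  have h := image_ltr_subsingleton q f hf (goodFibres_of_geometrically W.hom) i (fun v w => by
    exact (hfib (hr.subset (Set.mem_range_self v))).trans (hfib (hr.subset (Set.mem_range_self w))).symm) x
  rw [hr] at h
  have hxmem : ptOf x ∈ (ltr x).left '' fibComp f o := ⟨ptOf o, hmem, by rw [ltr_ptOf, _root_.mul_one]⟩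
  refine (isPreconnected_connectedComponentIn.image _ (ltr x).left.continuous.continuousOn).subset_connectedComponentIn
    hxmem fun z hz => ?_
  exact h ⟨z, hz, rfl⟩ ⟨_, hxmem, rfl⟩

/-- **Translation identifies the components of the fibres.** -/
theorem ltr_image_fibComp (x : 𝟙_ (Over (Spec (CommRingCat.of k))) ⟶ X) :
    (ltr x).left '' fibComp f (1 : 𝟙_ (Over (Spec (CommRingCat.of k))) ⟶ X) = fibComp f x := by
  refine (ltr_image_fibComp_subset q f hf x).antisymm fun z hz => ?_
  let o : 𝟙_ (Over (Spec (CommRingCat.of k))) ⟶ X := 1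
  let f' := (ltr x).left ≫ f
  have hf' : f' ≫ q = X.hom := by rw [Category.assoc, hf, Over.w (ltr x)]
  let w := (ltrHomeo x).symm z
  have hw : (ltr x).left w = z := (ltrHomeo x).apply_symm_apply z
  have hwm : w ∈ fibComp f' o := by
    have e : f' ⁻¹' {f' (ptOf o)} = (ltrHomeo x).symm '' (f ⁻¹' {f (ptOf x)}) := by
      rw [Homeomorph.image_symm, ← Set.preimage_comp, show f' (ptOf o) = f (ptOf x) by
        rw [Scheme.Hom.comp_apply, ltr_ptOf, _root_.mul_one]]
      ext v
      rfl
    have e₀ : (ltrHomeo x).symm (ptOf x) = ptOf o := by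
      rw [Homeomorph.symm_apply_eq]
      exact ((ltr_ptOf x o).trans (by rw [_root_.mul_one])).symm
    rw [fibComp, e, ← e₀, ← (ltrHomeo x).symm.image_connectedComponentIn ?_]
    · exact ⟨z, hz, rfl⟩
    · exact rfl
  have h := ltr_image_fibComp_subset q f' hf' x⁻¹ ⟨w, hwm, rfl⟩
  have h2 : (ltr x).left '' fibComp f' x⁻¹ ⊆ fibComp f o := by
    have hmem : ptOf o ∈ (ltr x).left '' fibComp f' x⁻¹ :=
      ⟨ptOf x⁻¹, mem_connectedComponentIn rfl, by rw [ltr_ptOf, mul_inv_cancel]⟩
    refine (isPreconnected_connectedComponentIn.image _ (ltr x).left.continuous.continuousOn).subset_connectedComponentIn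
      hmem ?_
    rintro _ ⟨v, hv, rfl⟩
    have := connectedComponentIn_subset _ _ hv
    rw [Set.mem_preimage, Set.mem_singleton_iff, Scheme.Hom.comp_apply, Scheme.Hom.comp_apply, ltr_ptOf,
      mul_inv_cancel] at this
    exact this
  refine ⟨w, ?_, hw⟩
  have h3 := h2 ⟨_, h, rfl⟩
  rwa [← Scheme.Hom.comp_apply, ← Over.comp_left, ltr_mul, mul_inv_cancel, ltr_one] at h3

end Groth.Agent.Rigid
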