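import Groth.Agent.S2501
import Groth.Prelude.Def_Red
import Mathlib.AlgebraicGeometry.Geometrically.Connected

/-!
# Geometric connectedness from the geometric fibres
-/

universe u

open CategoryTheory CategoryTheory.Limits AlgebraicGeometry

namespace Groth.Agent.Rigid

/-- Connected geometric fibres give geometrically connected fibres. -/
theorem geometricallyConnected_of_geomFibre {S : Scheme.{u}} (X : Over S)
    (hc : ∀ s : S, ConnectedSpace (Red.geomFibre s X).left) : GeometricallyConnected X.hom := by
  refine ⟨fun K _ y Z p q h => ?_⟩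
  obtain ⟨⟨s, a⟩, rfl⟩ : ∃ xf, (Scheme.SpecToEquivOfField K S).symm xf = y :=
    ⟨_, (Scheme.SpecToEquivOfField K S).symm_apply_apply y⟩
  change IsPullback p q X.hom (Spec.map a ≫ S.fromSpecResidueField s) at h
  let Ω := AlgebraicClosure K
  letI : Algebra (S.residueField s) K := a.hom.toAlgebra
  letI : Algebra (S.residueField s) Ω := ((algebraMap K Ω).comp a.hom).toAlgebra
  let ψ : AlgebraicClosure (S.residueField s) →ₐ[S.residueField s] Ω := IsAlgClosed.lift
  let b : Spec (CommRingCat.of Ω) ⟶ Spec (CommRingCat.of (AlgebraicClosure (S.residueField s))) :=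
    Spec.map (CommRingCat.ofHom ψ.toRingHom)
  let π : Spec (CommRingCat.of Ω) ⟶ Spec (CommRingCat.of K) :=
    Spec.map (CommRingCat.ofHom (algebraMap K Ω))
  have hπ : π ≫ Spec.map a ≫ S.fromSpecResidueField s = b ≫ Red.geomPt s := by
    simp only [π, b, Red.geomPt, ← Category.assoc, ← Spec.map_comp]
    congr 2
    ext x
    exact (ψ.commutes x).symm
  have hq0 : IsPullback (pullback.fst X.hom (Red.geomPt s)) (Red.geomFibre s X).hom X.hom (Red.geomPt s) :=
    IsPullback.of_hasPullback X.hom (Red.geomPt s)
  haveI : ConnectedSpace (Red.geomFibre s X).left := hc s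
  haveI : GeometricallyConnected (Red.geomFibre s X).hom := Groth.Agent.S2501.result _
  let W := pullback (Red.geomFibre s X).hom b
  haveI : ConnectedSpace W :=
    GeometricallyConnected.geometrically_connectedSpace (f := (Red.geomFibre s X).hom) b _ _
      (IsPullback.of_hasPullback (Red.geomFibre s X).hom b)
  have big : IsPullback (pullback.fst (Red.geomFibre s X).hom b ≫ pullback.fst X.hom (Red.geomPt s))
      (pullback.snd (Red.geomFibre s X).hom b) X.hom (b ≫ Red.geomPt s) :=
    (IsPullback.of_hasPullback (Red.geomFibre s X).hom b).paste_horiz hq0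
  rw [← hπ] at big
  let c : W ⟶ Z := h.lift (pullback.fst (Red.geomFibre s X).hom b ≫ pullback.fst X.hom (Red.geomPt s))
    (pullback.snd (Red.geomFibre s X).hom b ≫ π) (by rw [Category.assoc]; exact big.w)
  have sq : IsPullback c (pullback.snd (Red.geomFibre s X).hom b) q π :=
    IsPullback.of_right (by rw [h.lift_fst]; exact big) (h.lift_snd _ _ _) h
  haveI : Surjective π := ⟨fun z => by
    obtain ⟨w⟩ : Nonempty (Spec (CommRingCat.of Ω)) := inferInstanceAs (Nonempty (PrimeSpectrum Ω))
    exact ⟨w, Subsingleton.elim (α := PrimeSpectrum K) _ _⟩⟩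
  haveI : Surjective c := MorphismProperty.of_isPullback (P := @Surjective) sq.flip ‹Surjective π›
  exact c.surjective.connectedSpace c.continuous

end Groth.Agent.Rigid
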