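import Groth.Agent.Rigid.Over
import Groth.Agent.SmoothRed.Scheme
import Mathlib.AlgebraicGeometry.Morphisms.QuasiFinite

/-!
# Rigidity for smooth proper morphisms and quasi-finite targets
-/

universe u

open CategoryTheory CategoryTheory.Limits MonoidalCategory CartesianMonoidalCategory MonObj AlgebraicGeometry

namespace Groth.Agent.Rigid

/-- Smooth morphisms are geometrically reduced. -/
theorem geometricallyReduced_of_smooth {X T : Scheme.{u}} (g : X ⟶ T) [Smooth g] : GeometricallyReduced g := by
  refine ⟨fun L _ y Z p q h => ?_⟩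
  have : Smooth q := MorphismProperty.of_isPullback h ‹_›
  exact Groth.Agent.SmoothRed.isReduced_of_smooth_scheme (R := CommRingCat.of L) q

/-- Smooth, universally closed morphisms with geometrically connected fibres have good fibres. -/
theorem goodFibres_of_smooth {X T : Scheme.{u}} (g : X ⟶ T) [Smooth g] [UniversallyClosed g]
    [GeometricallyConnected g] : GoodFibres g :=
  haveI := geometricallyReduced_of_smooth g
  goodFibres_of_geometrically g

/-- A morphism to a locally quasi-finite separated `S`-scheme is constant. -/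
theorem exists_eq_toUnit_of_quasiFinite {S : Scheme.{u}} {X H : Over S} [IsProper X.hom] [Flat X.hom]
    [LocallyOfFinitePresentation X.hom] [Surjective X.hom] (hg : GoodFibres X.hom)
    (hc : ∀ s : S, _root_.IsPreconnected (X.hom ⁻¹' {s})) [IsSeparated H.hom] [LocallyQuasiFinite H.hom]
    (d : X ⟶ H) : ∃ k : 𝟙_ (Over S) ⟶ H, d = toUnit X ≫ k := by
  have hall : ∀ s, (d.left '' (X.hom ⁻¹' {s})).Subsingleton := by
    intro s
    rintro _ ⟨z, hz, rfl⟩ _ ⟨z', hz', rfl⟩
    refine (hc s).constant_of_mapsTo (H.hom.isDiscrete_preimage_singleton s) d.left.continuous.continuousOn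
      (fun w hw => ?_) hz hz'
    rw [Set.mem_preimage, Set.mem_singleton_iff, ← Scheme.Hom.comp_apply, Over.w d]
    exact hw
  obtain ⟨k, ⟨hk, hk'⟩, -⟩ := exists_factor_of_forall X.hom hg (𝟙 S) H.hom d.left
    (by rw [Over.w d, Category.comp_id]) hall
  exact ⟨Over.homMk k hk, Over.OverMorphism.ext hk'⟩

end Groth.Agent.Rigid
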