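import Groth.Agent.Rigid.Local
import Mathlib.AlgebraicGeometry.Morphisms.Flat
import Mathlib.AlgebraicGeometry.Morphisms.Proper
import Mathlib.AlgebraicGeometry.Morphisms.FinitePresentation
import Mathlib.AlgebraicGeometry.Fiber

/-!
# Functions vanishing on a section

For `g : X ⟶ T` flat, qcqs, universally closed, locally of finite presentation with connected reduced
fibres and a section `σ`, a function on `X` killed by `σ` is zero; so `Γ(T) = Γ(X)`.
-/

universe u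

open CategoryTheory CategoryTheory.Limits AlgebraicGeometry TopologicalSpace Opposite TensorProduct

namespace Groth.Agent.Rigid

/-- The field case. -/
theorem eq_zero_of_section_field {K : Type u} [Field K] {Z : Scheme.{u}} (f : Z ⟶ Spec (CommRingCat.of K))
    [UniversallyClosed f] [IsReduced Z] [PreconnectedSpace Z] (s : Spec (CommRingCat.of K) ⟶ Z)
    (hs : s ≫ f = 𝟙 _) (φ : Γ(Z, ⊤)) (h0 : s.appTop φ = 0) : φ = 0 := by
  let F : CommRingCat.of K ⟶ Γ(Z, ⊤) := (Scheme.ΓSpecIso _).inv ≫ f.appTop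
  have hF : F.hom.IsIntegral := by
    apply RingHom.isIntegral_respectsIso.2 (e := (Scheme.ΓSpecIso _).symm.commRingCatIsoToRingEquiv)
    exact isIntegral_appTop_of_universallyClosed f
  obtain ⟨P, hPm, hP⟩ := hF φ
  obtain ⟨Q, hPQ, hQ⟩ := Polynomial.exists_eq_pow_rootMultiplicity_mul_and_not_dvd P hPm.ne_zero 0
  set n := P.rootMultiplicity 0
  rw [map_zero, sub_zero] at hPQ hQ
  have hQ0 : Q.coeff 0 ≠ 0 := fun h => hQ (Polynomial.X_dvd_iff.2 h)
  let ψ : Γ(Z, ⊤) := Q.eval₂ F.hom φ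
  have hnil : IsNilpotent (φ * ψ) := by
    refine ⟨n + 1, ?_⟩
    have e : φ ^ n * ψ = 0 := by
      rw [← hP, hPQ, Polynomial.eval₂_mul, Polynomial.eval₂_pow, Polynomial.eval₂_X]
    calc (φ * ψ) ^ (n + 1) = φ ^ n * ψ * (φ * ψ ^ n) := by ring
      _ = 0 := by rw [e, zero_mul]
  have hspan : ∃ c d : Γ(Z, ⊤), c * φ + d * ψ = 1 := by
    obtain ⟨R, hR⟩ : Polynomial.X ∣ Q - Polynomial.C (Q.coeff 0) := Polynomial.X_dvd_iff.2 (by simp)
    refine ⟨-(F.hom (Q.coeff 0)⁻¹ * R.eval₂ F.hom φ), F.hom (Q.coeff 0)⁻¹, ?_⟩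
    have e : ψ = φ * R.eval₂ F.hom φ + F.hom (Q.coeff 0) := by
      have h := congrArg (Polynomial.eval₂ F.hom φ) (sub_eq_iff_eq_add.1 hR)
      simpa [Polynomial.eval₂_add, Polynomial.eval₂_mul] using h
    rw [e, mul_add, ← map_mul, inv_mul_cancel₀ hQ0, map_one]
    ring
  have hdisj : Z.basicOpen φ ⊓ Z.basicOpen ψ = ⊥ := by
    rw [← Scheme.basicOpen_mul, basicOpen_eq_bot_iff]
    exact hnil.eq_zero
  have hcov : ∀ x, x ∈ Z.basicOpen φ ∨ x ∈ Z.basicOpen ψ := by
    intro x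
    by_contra h
    rw [not_or, Scheme.mem_basicOpen_top, Scheme.mem_basicOpen_top] at h
    obtain ⟨c, d, hcd⟩ := hspan
    have e := congrArg (Z.presheaf.Γgerm x) hcd
    rw [map_add, map_mul, map_mul, map_one] at e
    exact (IsLocalRing.maximalIdeal.isMaximal (Z.presheaf.stalk x)).ne_top ((Ideal.eq_top_iff_one _).2
      (e ▸ add_mem (Ideal.mul_mem_left _ _ h.1) (Ideal.mul_mem_left _ _ h.2)))
  have hclopen : IsClopen (Z.basicOpen φ : Set Z) := by
    refine ⟨?_, (Z.basicOpen φ).2⟩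
    have : (Z.basicOpen φ : Set Z) = (Z.basicOpen ψ : Set Z)ᶜ := by
      ext x
      refine ⟨fun hx hx' => ?_, fun hx => (hcov x).resolve_right hx⟩
      have : x ∈ Z.basicOpen φ ⊓ Z.basicOpen ψ := ⟨hx, hx'⟩
      rw [hdisj] at this
      exact this
    rw [this]
    exact (Z.basicOpen ψ).2.isClosed_compl
  refine eq_zero_of_basicOpen_eq_bot φ (Opens.ext ?_)
  rcases isClopen_iff.1 hclopen with h | h
  · exact h
  · exfalso
    have hpt : (IsLocalRing.closedPoint K : Spec (CommRingCat.of K)) ∈ s ⁻¹ᵁ Z.basicOpen φ :=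
      (Set.eq_univ_iff_forall.1 h _ : s (IsLocalRing.closedPoint K) ∈ (Z.basicOpen φ : Set Z))
    rw [Scheme.preimage_basicOpen_top, h0, Scheme.basicOpen_zero] at hpt
    exact hpt

/-- The ring comparison attached to a pushout square. -/
theorem exists_tensorEquiv {A K B : Type u} [CommRing A] [CommRing K] [CommRing B] [Algebra A K] [Algebra A B]
    {P : CommRingCat.{u}} {inl : CommRingCat.of K ⟶ P} {inr : CommRingCat.of B ⟶ P}
    (h : IsPushout (CommRingCat.ofHom (algebraMap A K)) (CommRingCat.ofHom (algebraMap A B)) inl inr) :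
    ∃ e : K ⊗[A] B ≃+* P, ∀ k b, e (k ⊗ₜ b) = inl k * inr b := by
  let i := (CommRingCat.isPushout_tensorProduct A K B).isoIsPushout _ _ h
  refine ⟨i.commRingCatIsoToRingEquiv, fun k b => ?_⟩
  have h1 := congr($((CommRingCat.isPushout_tensorProduct A K B).inl_isoIsPushout_hom _ _ h) k)
  have h2 := congr($((CommRingCat.isPushout_tensorProduct A K B).inr_isoIsPushout_hom _ _ h) b)
  rw [← h1, ← h2]
  have : k ⊗ₜ[A] b = (k ⊗ₜ[A] 1) * (1 ⊗ₜ[A] b) := by simp
  rw [this]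
  exact map_mul i.hom.hom _ _

/-- Over every field-valued point a function on the fibre killed by a rational point is zero. -/
def GoodFibres {X T : Scheme.{u}} (g : X ⟶ T) : Prop :=
  ∀ (K : Type u) [Field K] (y : Spec (CommRingCat.of K) ⟶ T) (Z : Scheme.{u}) (p : Z ⟶ X)
    (q : Z ⟶ Spec (CommRingCat.of K)), IsPullback p q g y → ∀ s : Spec (CommRingCat.of K) ⟶ Z, s ≫ q = 𝟙 _ →
      ∀ ψ : Γ(Z, ⊤), s.appTop ψ = 0 → ψ = 0

/-- Good fibres are stable under base change. -/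
theorem GoodFibres.of_isPullback {X T X' T' : Scheme.{u}} {g : X ⟶ T} (hg : GoodFibres g) {g' : X' ⟶ T'}
    {a : X' ⟶ X} {b : T' ⟶ T} (h : IsPullback a g' g b) : GoodFibres g' :=
  fun K _ y Z p q hq => hg K (y ≫ b) Z (p ≫ a) q (hq.paste_horiz h)

variable {X T : Scheme.{u}} (g : X ⟶ T)

theorem mem_primeIdealOf_iff {Y : Scheme.{u}} {W : Y.Opens} (hW : IsAffineOpen W) (y : Y) (hy : y ∈ W)
    (c : Γ(Y, W)) : c ∈ (hW.primeIdealOf ⟨y, hy⟩).asIdeal ↔ y ∉ Y.basicOpen c := by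
  have : hW.primeIdealOf ⟨y, hy⟩ ∈ PrimeSpectrum.basicOpen c ↔ y ∈ Y.basicOpen c := by
    rw [← hW.fromSpec_preimage_basicOpen]
    change hW.fromSpec (hW.primeIdealOf ⟨y, hy⟩) ∈ Y.basicOpen c ↔ _
    rw [IsAffineOpen.fromSpec_primeIdealOf]
  rw [PrimeSpectrum.mem_basicOpen] at this
  rw [← this, not_not]

/-- **A function killed by a section vanishes.** -/
theorem eq_zero_of_section [Flat g] [LocallyOfFinitePresentation g] [QuasiSeparated g] [QuasiCompact g]
    (hfib : GoodFibres g)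
    (σ : T ⟶ X) (hσ : σ ≫ g = 𝟙 T) (φ : Γ(X, ⊤)) (hφ : σ.appTop φ = 0) : φ = 0 := by
  classical
  refine TopCat.Presheaf.section_ext X.sheaf ⊤ φ 0 fun x _ => ?_
  change X.presheaf.germ ⊤ x trivial φ = X.presheaf.germ ⊤ x trivial 0
  rw [map_zero]
  set t := g x with ht
  -- an affine neighbourhood of `t` whose image under the section lies in an affine open
  obtain ⟨V, hV, htV, -⟩ := exists_isAffineOpen_mem_and_subset (X := T) (x := t) (U := ⊤) trivial
  have hσt : g (σ t) = t := by rw [← Scheme.Hom.comp_apply, hσ]; rfl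
  obtain ⟨U', hU', htU', hU'V⟩ := exists_isAffineOpen_mem_and_subset (X := X) (x := σ t) (U := g ⁻¹ᵁ V)
    (by change g (σ t) ∈ V; rwa [hσt])
  obtain ⟨c, hcU, htc⟩ := hV.exists_basicOpen_le ⟨t, (show t ∈ σ ⁻¹ᵁ U' from htU')⟩ htV
  set W : T.Opens := T.basicOpen c with hWdef
  have hW : IsAffineOpen W := hV.basicOpen c
  let U₀ : X.Opens := X.basicOpen (g.appLE V U' hU'V c)
  have hU₀ : IsAffineOpen U₀ := hU'.basicOpen _
  have hU₀eq : U₀ = U' ⊓ g ⁻¹ᵁ W := Scheme.basicOpen_appLE ..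
  -- a finite affine cover of the preimage
  have hcpt : IsCompact (g ⁻¹ᵁ W : Set X) := g.isCompact_preimage hW.isCompact
  choose U hU hxU hUle using fun y : (g ⁻¹ᵁ W : X.Opens) =>
    exists_isAffineOpen_mem_and_subset (X := X) (x := (y : X)) (U := g ⁻¹ᵁ W) y.2
  obtain ⟨s, hs⟩ := hcpt.elim_finite_subcover (fun y => (U y : Set X)) (fun y => (U y).2)
    fun y hy => Set.mem_iUnion.2 ⟨⟨y, hy⟩, hxU ⟨y, hy⟩⟩
  let Uf : Option s → X.Opens := fun i => i.elim U₀ fun y => U y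
  have hUf : ∀ i, IsAffineOpen (Uf i) := fun i => by cases i <;> [exact hU₀; exact hU _]
  have hUfle : ∀ i, Uf i ≤ g ⁻¹ᵁ W := fun i => by
    cases i
    · change U₀ ≤ _; rw [hU₀eq]; exact inf_le_right
    · exact hUle _
  have hWU₀ : W ≤ σ ⁻¹ᵁ Uf none := by
    intro y hy
    change σ y ∈ U₀
    rw [hU₀eq]
    exact ⟨hcU hy, by change g (σ y) ∈ W; rw [← Scheme.Hom.comp_apply, hσ]; exact hy⟩
  have hcover : g ⁻¹ᵁ W ≤ iSup Uf := by
    intro y hy
    obtain ⟨z, hz⟩ := Set.mem_iUnion.1 (hs hy)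
    obtain ⟨hzs, hyz⟩ := Set.mem_iUnion.1 hz
    exact Opens.mem_iSup.2 ⟨some ⟨z, hzs⟩, hyz⟩
  -- finite affine covers of the overlaps
  have hov : ∀ i j, IsCompact ((Uf i ⊓ Uf j : X.Opens) : Set X) := fun i j => by
    have : IsQuasiSeparated (g ⁻¹ᵁ W : Set X) := g.isQuasiSeparated_preimage hW.isQuasiSeparated
    exact this _ _ (hUfle i) (Uf i).2 (hUf i).isCompact (hUfle j) (Uf j).2 (hUf j).isCompact
  choose O hO hxO hOle using fun (i j : Option s) (y : (Uf i ⊓ Uf j : X.Opens)) =>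
    exists_isAffineOpen_mem_and_subset (X := X) (x := (y : X)) (U := Uf i ⊓ Uf j) y.2
  choose s' hs' using fun i j => (hov i j).elim_finite_subcover (fun y => (O i j y : Set X))
    (fun y => (O i j y).2) fun y hy => Set.mem_iUnion.2 ⟨⟨y, hy⟩, hxO i j ⟨y, hy⟩⟩
  let ω := Σ p : Option s × Option s, (s' p.1 p.2 : Finset _)
  let O' : ω → X.Opens := fun w => O w.1.1 w.1.2 w.2
  have hO' : ∀ w : ω, IsAffineOpen (O' w) := fun w => hO _ _ _
  have hOl : ∀ w : ω, O' w ≤ Uf w.1.1 := fun w => le_trans (hOle _ _ _) inf_le_left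
  have hOr : ∀ w : ω, O' w ≤ Uf w.1.2 := fun w => le_trans (hOle _ _ _) inf_le_right
  -- the algebras
  let A := Γ(T, W)
  letI : ∀ i, Algebra A Γ(X, Uf i) := fun i => (g.appLE W (Uf i) (hUfle i)).hom.toAlgebra
  letI : ∀ w : ω, Algebra A Γ(X, O' w) := fun w => (g.appLE W (O' w) ((hOl w).trans (hUfle _))).hom.toAlgebra
  haveI : ∀ i, Module.Flat A Γ(X, Uf i) := fun i => g.flat_appLE hW (hUf i) (hUfle i)
  haveI : ∀ i, Algebra.FinitePresentation A Γ(X, Uf i) := fun i =>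
    g.finitePresentation_appLE hW (hUf i) (hUfle i)
  haveI : ∀ w : ω, Module.Flat A Γ(X, O' w) := fun w => g.flat_appLE hW (hO' w) _
  haveI : ∀ w : ω, Algebra.FinitePresentation A Γ(X, O' w) := fun w => g.finitePresentation_appLE hW (hO' w) _
  let r : ∀ w : ω, Γ(X, Uf w.1.1) →ₐ[A] Γ(X, O' w) := fun w =>
    { toRingHom := (X.presheaf.map (homOfLE (hOl w)).op).hom
      commutes' := fun a => congr($(g.appLE_map (hUfle w.1.1) (homOfLE (hOl w)).op) a) }
  let r' : ∀ w : ω, Γ(X, Uf w.1.2) →ₐ[A] Γ(X, O' w) := fun w =>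
    { toRingHom := (X.presheaf.map (homOfLE (hOr w)).op).hom
      commutes' := fun a => congr($(g.appLE_map (hUfle w.1.2) (homOfLE (hOr w)).op) a) }
  let σA : Γ(X, Uf none) →ₐ[A] A :=
    { toRingHom := (σ.appLE (Uf none) W hWU₀).hom
      commutes' := fun a => by
        change (g.appLE W (Uf none) (hUfle none) ≫ σ.appLE (Uf none) W hWU₀) a = a
        rw [Scheme.Hom.appLE_comp_appLE]
        simp only [hσ]
        rw [Scheme.Hom.appLE, Scheme.Hom.id_app]
        erw [Category.id_comp]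
        exact congr($(T.presheaf.map_id _) a) }
  -- the fibre
  let κ := T.residueField t
  let j := T.fromSpecResidueField t
  have hj : ⊤ ≤ j ⁻¹ᵁ W := fun y _ => by
    change j y ∈ W
    rw [Scheme.fromSpecResidueField_apply]; exact htc
  let evA : A ⟶ κ := j.appLE W ⊤ hj ≫ (Scheme.ΓSpecIso κ).hom
  letI : Algebra A κ := evA.hom.toAlgebra
  have hker : RingHom.ker (algebraMap A κ) = (hW.primeIdealOf ⟨t, htc⟩).asIdeal := by
    ext a
    rw [RingHom.mem_ker, mem_primeIdealOf_iff hW]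
    change (Scheme.ΓSpecIso κ).hom (j.appLE W ⊤ hj a) = 0 ↔ _
    rw [map_eq_zero_iff (Scheme.ΓSpecIso κ).hom.hom (Scheme.ΓSpecIso κ).commRingCatIsoToRingEquiv.injective,
      ← basicOpen_eq_bot_iff, Scheme.basicOpen_appLE]
    constructor
    · intro h hta
      obtain ⟨y⟩ : Nonempty (Spec κ) := inferInstanceAs (Nonempty (PrimeSpectrum κ))
      have hm : y ∈ (⊤ ⊓ j ⁻¹ᵁ T.basicOpen a : (Spec κ).Opens) :=
        ⟨trivial, by change j y ∈ T.basicOpen a; rw [Scheme.fromSpecResidueField_apply]; exact hta⟩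
      rw [h] at hm
      exact hm
    · intro h
      refine eq_bot_iff.2 fun y hy => (h ?_).elim
      have := hy.2
      change j y ∈ T.basicOpen a at this
      rwa [Scheme.fromSpecResidueField_apply] at this
  let p := pullback.fst g j
  let q := pullback.snd g j
  let Z := pullback g j
  have hq : ∀ V : (pullback g j).Opens, V ≤ q ⁻¹ᵁ ⊤ := fun _ _ _ => trivial
  have hdiag : ∀ (V : X.Opens) (hV : IsAffineOpen V) (hVW : V ≤ g ⁻¹ᵁ W),
      letI := (g.appLE W V hVW).hom.toAlgebra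
      ∃ e : κ ⊗[A] Γ(X, V) ≃+* Γ(Z, p ⁻¹ᵁ V), ∀ k b, e (k ⊗ₜ b) =
        ((Scheme.ΓSpecIso κ).inv ≫ q.appLE ⊤ (p ⁻¹ᵁ V) (hq _)) k * p.app V b := by
    intro V hV hVW
    letI := (g.appLE W V hVW).hom.toAlgebra
    have h0 := (isIso_pushoutSection_iff (IsPullback.of_hasPullback g j) hj hVW
      (UY := p ⁻¹ᵁ V) (by simp [p])).1
      (isIso_pushoutSection_of_isAffineOpen _ _ _ _ hW (isAffineOpen_top _) hV)
    have h1 : IsPushout evA (g.appLE W V hVW)
        ((Scheme.ΓSpecIso κ).inv ≫ q.appLE ⊤ (p ⁻¹ᵁ V) (hq _)) (p.app V) := by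
      refine h0.flip.of_iso (Iso.refl _) (Scheme.ΓSpecIso κ) (Iso.refl _) (Iso.refl _) ?_ ?_ ?_ ?_
      · simp [evA]
      · simp
      · simp [q]
      · simp [p, Scheme.Hom.app_eq_appLE]
    exact exists_tensorEquiv (A := A) (K := κ) (B := Γ(X, V)) h1
  choose θ hθ using fun i => hdiag (Uf i) (hUf i) (hUfle i)
  choose θ' hθ' using fun w : ω => hdiag (O' w) (hO' w) ((hOl w).trans (hUfle _))
  -- naturality
  have hnat : ∀ (V V' : X.Opens) (hle : V ≤ V'),
      (q.appLE ⊤ (p ⁻¹ᵁ V') (hq _) ≫ (pullback g j).presheaf.map (homOfLE (p.preimage_mono hle)).op =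
        q.appLE ⊤ (p ⁻¹ᵁ V) (hq _)) ∧
      X.presheaf.map (homOfLE hle).op ≫ p.app V = p.app V' ≫ Z.presheaf.map (homOfLE (p.preimage_mono hle)).op :=
    fun V V' hle => ⟨Scheme.Hom.appLE_map _ _ _, Scheme.Hom.naturality p (homOfLE hle).op⟩
  -- only the zero family over the residue field is compatible
  have hK : Vanish (a := fun w : ω => w.1.1) (b := fun w : ω => w.1.2) (i₀ := none)
      (B := fun i => Γ(X, Uf i)) (C := fun w => Γ(X, O' w)) r r' σA κ := by
    intro z hz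
    have hres : ∀ (i : Option s) (w : ω) (hle : O' w ≤ Uf i) (rr : Γ(X, Uf i) →ₐ[A] Γ(X, O' w))
        (hrr : ∀ b, rr b = X.presheaf.map (homOfLE hle).op b) (y : κ ⊗[A] Γ(X, Uf i)),
        Z.presheaf.map (homOfLE (p.preimage_mono hle)).op (θ i y) = θ' w (rr.toLinearMap.lTensor κ y) := by
      intro i w hle rr hrr y
      induction y using TensorProduct.induction_on with
      | zero => simp
      | add y y' h h' => simp only [map_add, h, h']
      | tmul k b =>
        rw [LinearMap.lTensor_tmul, hθ, hθ', map_mul, AlgHom.toLinearMap_apply, hrr]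
        congr 1
        · exact congr($((hnat (O' w) (Uf i) hle).1) ((Scheme.ΓSpecIso κ).inv k))
        · exact congr($((hnat (O' w) (Uf i) hle).2) b).symm
    let zs : ∀ i, Γ(Z, p ⁻¹ᵁ Uf i) := fun i => θ i (z i)
    have hcompat : TopCat.Presheaf.IsCompatible Z.sheaf.1 (fun i => p ⁻¹ᵁ Uf i) zs := by
      intro i i'
      refine Z.sheaf.eq_of_locally_eq' (fun y : s' i i' => p ⁻¹ᵁ O i i' y) _
        (fun y => homOfLE (p.preimage_mono (hOle i i' y))) ?_ _ _ fun y => ?_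
      · intro v hv
        obtain ⟨y, hy⟩ := Set.mem_iUnion.1 (hs' i i' (show p v ∈ ((Uf i ⊓ Uf i' : X.Opens) : Set X) from hv))
        obtain ⟨hys, hvy⟩ := Set.mem_iUnion.1 hy
        exact Opens.mem_iSup.2 ⟨⟨y, hys⟩, hvy⟩
      · let w : ω := ⟨(i, i'), y⟩
        change (Z.presheaf.map _ ≫ Z.presheaf.map _) (zs i) = (Z.presheaf.map _ ≫ Z.presheaf.map _) (zs i')
        erw [← Functor.map_comp, ← Functor.map_comp]
        refine (hres i w (hOl w) (r w) (fun _ => rfl) (z i)).trans ?_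
        rw [hz.1 w]
        exact (hres i' w (hOr w) (r' w) (fun _ => rfl) (z i')).symm
    have htop : (⊤ : Z.Opens) ≤ ⨆ i, p ⁻¹ᵁ Uf i := fun v _ => by
      have hv : p v ∈ g ⁻¹ᵁ W := by
        change g (p v) ∈ W
        rw [← Scheme.Hom.comp_apply, pullback.condition, Scheme.Hom.comp_apply, Scheme.fromSpecResidueField_apply]
        exact htc
      obtain ⟨i, hi⟩ := Opens.mem_iSup.1 (hcover hv)
      exact Opens.mem_iSup.2 ⟨i, hi⟩
    obtain ⟨Ψ, hΨ, -⟩ := Z.sheaf.existsUnique_gluing' (fun i => p ⁻¹ᵁ Uf i) ⊤ (fun i => homOfLE le_top) htop zs hcompat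
    let sZ : Spec κ ⟶ Z := pullback.lift (j ≫ σ) (𝟙 _) (by rw [Category.assoc, hσ, Category.comp_id, Category.id_comp])
    have hle0 : ⊤ ≤ sZ ⁻¹ᵁ (p ⁻¹ᵁ Uf none) := fun y _ => by
      change (pullback.fst g j) (sZ y) ∈ Uf none
      rw [← Scheme.Hom.comp_apply, pullback.lift_fst, Scheme.Hom.comp_apply, Scheme.fromSpecResidueField_apply]
      exact hWU₀ htc
    have hsec : ∀ y, (Scheme.ΓSpecIso κ).hom (sZ.appLE (p ⁻¹ᵁ Uf none) ⊤ hle0 (θ none y)) =
        TensorProduct.rid A κ (σA.toLinearMap.lTensor κ y) := by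
      intro y
      induction y using TensorProduct.induction_on with
      | zero => simp
      | add y y' h h' => simp only [map_add, h, h']
      | tmul k b =>
        rw [LinearMap.lTensor_tmul, TensorProduct.rid_tmul, hθ, map_mul, map_mul, Algebra.smul_def, mul_comm]
        congr 1
        · change (p.app (Uf none) ≫ sZ.appLE (p ⁻¹ᵁ Uf none) ⊤ hle0 ≫ (Scheme.ΓSpecIso κ).hom) b =
            (σ.appLE (Uf none) W hWU₀ ≫ evA) b
          simp only [p, sZ, evA, Scheme.Hom.app_eq_appLE, Scheme.Hom.appLE_comp_appLE_assoc, pullback.lift_fst]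
        · change ((Scheme.ΓSpecIso κ).inv ≫ q.appLE ⊤ (p ⁻¹ᵁ Uf none) (hq _) ≫
            sZ.appLE (p ⁻¹ᵁ Uf none) ⊤ hle0 ≫ (Scheme.ΓSpecIso κ).hom) k = k
          have aux : ∀ (f : Spec κ ⟶ Spec κ) (e : ⊤ ≤ f ⁻¹ᵁ ⊤), f = 𝟙 _ → f.appLE ⊤ ⊤ e = 𝟙 _ := by
            rintro _ e rfl
            rw [Scheme.Hom.appLE, Scheme.Hom.id_app]
            exact (Category.id_comp _).trans ((Spec κ).presheaf.map_id _)
          rw [Scheme.Hom.appLE_comp_appLE_assoc, aux _ _ (pullback.lift_snd _ _ _), Category.id_comp,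
            Iso.inv_hom_id]
          rfl
    have hΨ0 : Ψ = 0 := by
      refine hfib κ j Z p q (IsPullback.of_hasPullback g j) sZ (pullback.lift_snd _ _ _) Ψ ?_
      apply (Scheme.ΓSpecIso κ).commRingCatIsoToRingEquiv.injective
      rw [map_zero]
      have e : sZ.appTop Ψ = sZ.appLE (p ⁻¹ᵁ Uf none) ⊤ hle0 (zs none) := by
        rw [← hΨ none]
        change _ = (Z.presheaf.map (homOfLE le_top).op ≫ sZ.appLE (p ⁻¹ᵁ Uf none) ⊤ hle0) Ψ
        rw [Scheme.Hom.map_appLE, Scheme.Hom.appTop, Scheme.Hom.app_eq_appLE]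
        rfl
      rw [e]
      exact (hsec (z none)).trans (by rw [hz.2, map_zero])
    funext i
    apply (θ i).injective
    rw [Pi.zero_apply, map_zero]
    have := hΨ i
    rw [hΨ0, map_zero] at this
    exact this.symm
  -- conclude
  have hx0 : x ∈ g ⁻¹ᵁ W := htc
  obtain ⟨i, hi⟩ := Opens.mem_iSup.1 (hcover hx0)
  let φs : ∀ i, Γ(X, Uf i) := fun i => X.presheaf.map (homOfLE le_top).op φ
  have hQ : ((hUf i).primeIdealOf ⟨x, hi⟩).asIdeal.comap (algebraMap A Γ(X, Uf i)) =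
      (hW.primeIdealOf ⟨t, htc⟩).asIdeal :=
    congrArg PrimeSpectrum.asIdeal (IsAffineOpen.comap_primeIdealOf_appLE W hW (Uf i) (hUf i) (hUfle i) hi)
  obtain ⟨a, ha, ha'⟩ := exists_mul_eq_zero (a := fun w : ω => w.1.1) (b := fun w : ω => w.1.2) (i₀ := none)
    (B := fun i => Γ(X, Uf i)) (C := fun w => Γ(X, O' w)) (r := r) (r' := r') (σ := σA) (K := κ) _ hker hK φs
    (fun w => by
      change (X.presheaf.map _ ≫ X.presheaf.map _) φ = (X.presheaf.map _ ≫ X.presheaf.map _) φ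
      rw [← Functor.map_comp, ← Functor.map_comp]; rfl)
    (by
      change (X.presheaf.map _ ≫ σ.appLE (Uf none) W hWU₀) φ = 0
      rw [Scheme.Hom.map_appLE, Scheme.Hom.appLE, CommRingCat.comp_apply]
      change T.presheaf.map _ (σ.appTop φ) = 0
      rw [hφ, map_zero])
    i _ hQ
  have hax : IsUnit (X.presheaf.germ (Uf i) x hi a) := by
    rw [← Scheme.mem_basicOpen]
    by_contra hn
    exact ha ((mem_primeIdealOf_iff (hUf i) x hi a).2 hn)
  have e := congrArg (X.presheaf.germ (Uf i) x hi) ha'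
  rw [map_mul, map_zero, hax.mul_right_eq_zero] at e
  rw [← e]
  exact (TopCat.Presheaf.germ_res_apply _ _ _ _ _).symm

end Groth.Agent.Rigid
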