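import Groth.Agent.Rigid.Over
import Mathlib.AlgebraicGeometry.Geometrically.Integral

/-!
# Rigidity for geometrically integral fibres
-/

universe u

open CategoryTheory CategoryTheory.Limits AlgebraicGeometry

namespace Groth.Agent.Rigid

/-- Geometrically integral fibres are good. -/
theorem goodFibres_of_geometricallyIntegral {X T : Scheme.{u}} (g : X ⟶ T) [UniversallyClosed g]
    [GeometricallyIntegral g] : GoodFibres g := by
  intro K _ y Z p q h s hs ψ hψ
  haveI : UniversallyClosed q := MorphismProperty.of_isPullback h ‹_›
  haveI : IsIntegral Z := GeometricallyIntegral.geometrically_isIntegral _ _ _ h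
  exact eq_zero_of_section_field q s hs ψ hψ

/-- Geometrically integral fibres are preconnected. -/
theorem isPreconnected_fibre_of_geometricallyIntegral {X T : Scheme.{u}} (g : X ⟶ T) [GeometricallyIntegral g]
    (t : T) : _root_.IsPreconnected (g ⁻¹' {t}) := by
  rw [← g.range_fiberι t]
  exact isPreconnected_range (g.fiberι t).continuous

end Groth.Agent.Rigid
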