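import Groth.Agent.Rigid.Lemma
import Mathlib.CategoryTheory.Monoidal.Cartesian.Over
import Mathlib.CategoryTheory.Monoidal.Cartesian.Grp_

/-!
# Rigidity for morphisms out of products over a base
-/

universe u

open CategoryTheory CategoryTheory.Limits MonoidalCategory CartesianMonoidalCategory MonObj AlgebraicGeometry TopologicalSpace

namespace Groth.Agent.Rigid

variable {S : Scheme.{u}} {X Z G : Over S} [IsProper X.hom] [Flat X.hom] [LocallyOfFinitePresentation X.hom]

omit [IsProper X.hom] [Flat X.hom] [LocallyOfFinitePresentation X.hom] in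
/-- A point of `X ⊗ Z` over a section of `Z` comes from `X`. -/
theorem exists_lift_of_snd (z₀ : 𝟙_ (Over S) ⟶ Z) (w : (X ⊗ Z).left) (s : S)
    (h : (snd X Z).left w = z₀.left s) : ∃ x, (lift (𝟙 X) (toUnit X ≫ z₀)).left x = w := by
  obtain ⟨v, hv, -⟩ := Scheme.Pullback.exists_preimage_pullback (f := (snd X Z).left) (g := z₀.left) w s h
  let a := pullback.fst (snd X Z).left z₀.left
  let b := pullback.snd (snd X Z).left z₀.left
  refine ⟨(a ≫ (fst X Z).left) v, ?_⟩
  suffices e : (a ≫ (fst X Z).left) ≫ (lift (𝟙 X) (toUnit X ≫ z₀)).left = a by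
    rw [← Scheme.Hom.comp_apply, e]
    exact hv
  apply pullback.hom_ext
  · calc _ = (a ≫ (fst X Z).left) ≫ ((lift (𝟙 X) (toUnit X ≫ z₀)) ≫ fst X Z).left := by
          rw [Category.assoc, Over.comp_left]; rfl
      _ = a ≫ (fst X Z).left := by rw [lift_fst, Over.id_left, Category.comp_id]
      _ = _ := rfl
  · have hb : b = (a ≫ (fst X Z).left) ≫ X.hom := by
      have e1 : (fst X Z).left ≫ X.hom = (snd X Z).left ≫ Z.hom := by rw [Over.w, Over.w]
      have e2 : z₀.left ≫ Z.hom = 𝟙 S := Over.w z₀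
      rw [Category.assoc, e1, ← Category.assoc, show a ≫ (snd X Z).left = b ≫ z₀.left from pullback.condition,
        Category.assoc, e2]
      exact (Category.comp_id _).symm
    calc _ = (a ≫ (fst X Z).left) ≫ ((lift (𝟙 X) (toUnit X ≫ z₀)) ≫ snd X Z).left := by
          rw [Category.assoc, Over.comp_left]; rfl
      _ = ((a ≫ (fst X Z).left) ≫ X.hom) ≫ z₀.left := by rw [lift_snd, Over.comp_left]; simp
      _ = b ≫ z₀.left := by rw [hb]
      _ = a ≫ (snd X Z).left := pullback.condition.symm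
      _ = _ := rfl

/-- **Rigidity for products.** A morphism `X ⊗ Z ⟶ G` to a separated scheme which is the constant `u`
on both axes is constant, if `Z` has connected fibres. -/
theorem eq_const_of_axes (hg : GoodFibres X.hom) [IsSeparated G.hom] (x₀ : 𝟙_ (Over S) ⟶ X)
    (z₀ : 𝟙_ (Over S) ⟶ Z) (hZ : ∀ s : S, _root_.IsPreconnected (Z.hom ⁻¹' {s})) (φ : X ⊗ Z ⟶ G)
    (u : 𝟙_ (Over S) ⟶ G)
    (h₁ : lift (𝟙 X) (toUnit X ≫ z₀) ≫ φ = toUnit X ≫ u)
    (h₂ : lift (toUnit Z ≫ x₀) (𝟙 Z) ≫ φ = toUnit Z ≫ u) : φ = toUnit (X ⊗ Z) ≫ u := by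
  let p₂ := (snd X Z).left
  haveI : IsProper p₂ := inferInstanceAs (IsProper (pullback.snd X.hom Z.hom))
  haveI : Flat p₂ := inferInstanceAs (Flat (pullback.snd X.hom Z.hom))
  haveI : LocallyOfFinitePresentation p₂ := inferInstanceAs (LocallyOfFinitePresentation (pullback.snd X.hom Z.hom))
  haveI : Surjective X.hom := ⟨fun s => ⟨x₀.left s, by
    rw [← Scheme.Hom.comp_apply, Over.w x₀]; rfl⟩⟩
  haveI : Surjective p₂ := inferInstanceAs (Surjective (pullback.snd X.hom Z.hom))
  have hg₂ : GoodFibres p₂ := hg.of_isPullback (IsPullback.of_hasPullback X.hom Z.hom)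
  have hf : φ.left ≫ G.hom = p₂ ≫ Z.hom := by rw [Over.w φ, Over.w (snd X Z)]
  have hall : ∀ z, (φ.left '' (p₂ ⁻¹' {z})).Subsingleton := by
    obtain ⟨W, hWc, hW, -⟩ := exists_clopen_factor p₂ hg₂ Z.hom G.hom φ.left hf
    intro z
    have hz₀ : z₀.left (Z.hom z) ∈ W := (hW _).2 (by
      rintro _ ⟨w, hw, rfl⟩ _ ⟨w', hw', rfl⟩
      obtain ⟨x, rfl⟩ := exists_lift_of_snd z₀ w _ hw
      obtain ⟨x', rfl⟩ := exists_lift_of_snd z₀ w' _ hw'
      have hx : ∀ x : X.left, (fun w => φ.left w) ((lift (𝟙 X) (toUnit X ≫ z₀)).left x) = u.left (X.hom x) := by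
        intro x
        change φ.left ((lift (𝟙 X) (toUnit X ≫ z₀)).left x) = _
        rw [← Scheme.Hom.comp_apply, ← Over.comp_left, h₁, Over.comp_left, Scheme.Hom.comp_apply]
        rfl
      have hs : ∀ x : X.left, p₂ ((lift (𝟙 X) (toUnit X ≫ z₀)).left x) = z₀.left (Z.hom z) →
          X.hom x = Z.hom z := by
        intro x hx'
        have e := congrArg Z.hom hx'
        rw [← Scheme.Hom.comp_apply, ← Scheme.Hom.comp_apply, ← Scheme.Hom.comp_apply, Over.w z₀,
          show p₂ ≫ Z.hom = (X ⊗ Z).hom from Over.w (snd X Z), Over.w (lift (𝟙 X) (toUnit X ≫ z₀))] at e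
        exact e
      exact (hx x).trans ((congrArg u.left ((hs x hw).trans (hs x' hw').symm)).trans (hx x').symm))
    refine (hW z).1 ((hZ (Z.hom z)).subset_isClopen ⟨hWc, W.2⟩ ⟨z₀.left (Z.hom z), ?_, hz₀⟩ rfl)
    rw [Set.mem_preimage, Set.mem_singleton_iff, ← Scheme.Hom.comp_apply, Over.w z₀]
    try rfl
  obtain ⟨k, ⟨hk, hk'⟩, -⟩ := exists_factor_of_forall p₂ hg₂ Z.hom G.hom φ.left hf hall
  have hfac : φ = snd X Z ≫ (Over.homMk k hk : Z ⟶ G) := Over.OverMorphism.ext hk'
  have hku : (Over.homMk k hk : Z ⟶ G) = toUnit Z ≫ u := by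
    rw [← h₂, hfac, lift_snd_assoc, Category.id_comp]
  rw [hfac, hku, comp_toUnit_assoc]

/-- A morphism of group objects preserving the unit is a homomorphism, for `X` proper flat with good
fibres and connected fibres and `Y` separated. -/
theorem isMonHom_of_unit [GrpObj X] [GrpObj G] [IsSeparated G.hom] (hg : GoodFibres X.hom)
    (hc : ∀ s : S, _root_.IsPreconnected (X.hom ⁻¹' {s})) (f : X ⟶ G) (hf : η[X] ≫ f = η[G]) : IsMonHom f := by
  let φ : X ⊗ X ⟶ G := (μ[X] ≫ f) * ((fst X X ≫ f) * (snd X X ≫ f))⁻¹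
  have h1 : (1 : X ⟶ X) ≫ f = 1 := by rw [Hom.one_def, Category.assoc, hf, Hom.one_def]
  have key : φ = toUnit (X ⊗ X) ≫ η[G] := by
    refine eq_const_of_axes hg η[X] η[X] hc φ η[G] ?_ ?_
    · rw [← Hom.one_def, ← Hom.one_def, MonObj.comp_mul, GrpObj.comp_inv, MonObj.comp_mul,
        ← Category.assoc _ μ[X], ← Hom.mul_def, _root_.mul_one, ← Category.assoc, lift_fst, ← Category.assoc, lift_snd,
        h1, _root_.mul_one, mul_inv_cancel]
    · rw [← Hom.one_def, ← Hom.one_def, MonObj.comp_mul, GrpObj.comp_inv, MonObj.comp_mul,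
        ← Category.assoc _ μ[X], ← Hom.mul_def, _root_.one_mul, ← Category.assoc, lift_fst, ← Category.assoc, lift_snd,
        h1, _root_.one_mul, mul_inv_cancel]
  refine ⟨hf, ?_⟩
  rw [← Hom.one_def, mul_inv_eq_one] at key
  rw [key, Hom.mul_def]
  congr 1

/-- Geometrically connected fibres are connected. -/
theorem isPreconnected_fibre [GeometricallyConnected X.hom] (s : S) : _root_.IsPreconnected (X.hom ⁻¹' {s}) :=
  (X.hom.isConnected_preimage_singleton s).isPreconnected

/-- An abelian scheme is commutative. -/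
theorem isCommMonObj_of_goodFibres [GrpObj X] (hg : GoodFibres X.hom)
    (hc : ∀ s : S, _root_.IsPreconnected (X.hom ⁻¹' {s})) : IsCommMonObj X := by
  have hinv : ∀ {A : Over S} (f : A ⟶ X), f ≫ GrpObj.inv = f⁻¹ := fun f => rfl
  haveI : IsMonHom (GrpObj.inv (X := X)) := isMonHom_of_unit hg hc _ (by
    have e : η[X] = (1 : 𝟙_ (Over S) ⟶ X) := by rw [Hom.one_def, toUnit_unit, Category.id_comp]
    rw [hinv, e, inv_one])
  have e : (fst X X * snd X X) ≫ GrpObj.inv = (fst X X ≫ GrpObj.inv) * (snd X X ≫ GrpObj.inv) :=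
    MonObj.mul_comp _ _ _
  rw [hinv, hinv, hinv, mul_inv_rev] at e
  have e' : fst X X * snd X X = snd X X * fst X X := by
    have := congrArg (fun z => z⁻¹) e
    simpa [mul_inv_rev] using this
  refine ⟨?_⟩
  rw [Hom.mul_def, Hom.mul_def, lift_fst_snd, Category.id_comp] at e'
  rw [show (β_ X X).hom = lift (snd X X) (fst X X) from by ext1 <;> simp]
  exact e'.symm

end Groth.Agent.Rigid

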