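import Groth.Agent.WeilLib.Trdeg
import Mathlib.AlgebraicGeometry.ZariskisMainTheorem
import Mathlib.AlgebraicGeometry.Artinian
import Mathlib.AlgebraicGeometry.Fiber
import Mathlib.RingTheory.RingHom.QuasiFinite

/-!
# Dimension of the image of a morphism with a finite fibre
-/

universe u

open CategoryTheory CategoryTheory.Limits AlgebraicGeometry TopologicalSpace

namespace Groth.Agent.Rigid

/-- At a quasi-finite point the residue field extension is finite. -/
theorem residueDegree_ne_zero_of_quasiFiniteAt {X Y : Scheme.{u}} (f : X ⟶ Y) {x : X} (h : f.QuasiFiniteAt x) :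
    f.residueDegree x ≠ 0 := by
  letI := (f.residueFieldMap x).hom.toAlgebra
  have h1 : ((f.residueFieldMap x).hom.comp (Y.residue (f x)).hom).QuasiFinite := by
    have e : (f.residueFieldMap x).hom.comp (Y.residue (f x)).hom = (X.residue x).hom.comp (f.stalkMap x).hom :=
      congrArg CommRingCat.Hom.hom (Scheme.residue_residueFieldMap f x)
    rw [e]
    exact RingHom.QuasiFinite.comp
      (RingHom.QuasiFinite.of_finite (RingHom.Finite.of_surjective _ (X.residue_surjective x))) h
  have h2 : (f.residueFieldMap x).hom.QuasiFinite := RingHom.QuasiFinite.of_comp h1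
  have h3 : Algebra.QuasiFinite (Y.residueField (f x)) (X.residueField x) := h2
  have h4 : Module.Finite (Y.residueField (f x)) (X.residueField x) := Module.Finite.of_quasiFinite
  exact Module.finrank_pos.ne'

/-- A point whose fibre is zero-dimensional is quasi-finite. -/
theorem quasiFiniteAt_of_fiber_dim {X Y : Scheme.{u}} (f : X ⟶ Y) [LocallyOfFiniteType f] (x : X)
    (hx : topologicalKrullDim ↥(f.fiber (f x)) ≤ 0) : f.QuasiFiniteAt x := by
  have : LocallyOfFiniteType (f.fiberToSpecResidueField (f x)) :=
    inferInstanceAs (LocallyOfFiniteType (pullback.snd f (Y.fromSpecResidueField _)))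
  have : IsLocallyNoetherian (f.fiber (f x)) :=
    LocallyOfFiniteType.isLocallyNoetherian (f.fiberToSpecResidueField (f x))
  have : IsLocallyArtinian (f.fiber (f x)) := IsLocallyArtinian.of_topologicalKrullDim_le_zero hx
  rw [Scheme.Hom.quasiFiniteAt_iff_isOpen_singleton_asFiber]
  exact isOpen_discrete _

variable {k : Type u} [Field k] {X Y : Scheme.{u}}
  (p : X ⟶ Spec (CommRingCat.of k)) (q : Y ⟶ Spec (CommRingCat.of k)) [LocallyOfFiniteType p] [LocallyOfFiniteType q]

include p in
omit [LocallyOfFiniteType q] in
/-- The dimension of an irreducible scheme of finite type is the dimension of its generic point. -/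
theorem topologicalKrullDim_eq_pdim [IrreducibleSpace X] :
    topologicalKrullDim X = (WeilCoh.pdim X (genericPoint X) : ℕ∞) := by
  letI := specializationOrder X
  rw [← (WeilLib.exists_pdim_eq_trd p (genericPoint X)).2, ← BMCoh.topologicalKrullDim_closure_singleton,
    show closure ({genericPoint X} : Set X) = Set.univ from genericPoint_spec X,
    (Homeomorph.Set.univ X).isHomeomorph.topologicalKrullDim_eq]

/-- **A morphism of irreducible proper varieties with a zero-dimensional fibre, `dim X ≥ dim Y`, is
surjective.** -/
theorem surjective_of_fiber_dim [IrreducibleSpace X] [IrreducibleSpace Y] (f : X ⟶ Y) (hf : f ≫ q = p)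
    (hclosed : IsClosed (Set.range f)) (hdim : topologicalKrullDim Y ≤ topologicalKrullDim X) (x : X)
    (hx : topologicalKrullDim ↥(f.fiber (f x)) ≤ 0) :
    Surjective f ∧ topologicalKrullDim X = topologicalKrullDim Y := by
  have : LocallyOfFiniteType (f ≫ q) := by rw [hf]; infer_instance
  have : LocallyOfFiniteType f := locallyOfFiniteType_of_comp f q
  have hξ : f.QuasiFiniteAt (genericPoint X) :=
    ((genericPoint_spec X).specializes trivial).mem_open f.isOpen_quasiFiniteAt
      (quasiFiniteAt_of_fiber_dim f x hx)
  have h1 : WeilCoh.pdim Y (f (genericPoint X)) = WeilCoh.pdim X (genericPoint X) :=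
    WeilLib.pdim_eq_of_residueDegree_ne_zero p f q hf (residueDegree_ne_zero_of_quasiFiniteAt f hξ)
  have hle : WeilCoh.pdim Y (genericPoint Y) ≤ WeilCoh.pdim X (genericPoint X) := by
    rw [topologicalKrullDim_eq_pdim p, topologicalKrullDim_eq_pdim q] at hdim
    exact_mod_cast hdim
  have hgen : f (genericPoint X) = genericPoint Y := by
    by_contra hne
    have := WeilLib.pdim_lt q (genericPoint_specializes (f (genericPoint X))) hne
    omega
  refine ⟨⟨fun y => hclosed.stableUnderSpecialization (genericPoint_specializes y) ⟨_, hgen⟩⟩, ?_⟩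
  rw [topologicalKrullDim_eq_pdim p, topologicalKrullDim_eq_pdim q, ← hgen, h1]

end Groth.Agent.Rigid
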