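import Groth.Agent.Rigid.Sections
import Mathlib.AlgebraicGeometry.Geometrically.Connected
import Mathlib.AlgebraicGeometry.Geometrically.Reduced
import Mathlib.AlgebraicGeometry.Morphisms.Separated
import Mathlib.AlgebraicGeometry.Sites.Fpqc

/-!
# The rigidity lemma

For `g : X ⟶ T` proper, flat, locally of finite presentation with geometrically connected and
geometrically reduced fibres and `f : X ⟶ Y` with `Y` separated, the set of `t` whose fibre is collapsed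
by `f` is clopen and `f` factors through `g` over it.
-/

universe u

open CategoryTheory CategoryTheory.Limits AlgebraicGeometry TopologicalSpace

namespace Groth.Agent.Rigid

/-- Morphisms agree if they agree locally. -/
theorem hom_ext_of_forall {X Y : Scheme.{u}} (a b : X ⟶ Y)
    (h : ∀ x : X, ∃ U : X.Opens, x ∈ U ∧ U.ι ≫ a = U.ι ≫ b) : a = b := by
  choose U hx hU using h
  exact Scheme.Cover.hom_ext (X.openCoverOfIsOpenCover U (eq_top_iff.2 fun x _ => Opens.mem_iSup.2 ⟨x, hx x⟩)) _ _ hU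

/-- Geometrically connected and geometrically reduced fibres are good. -/
theorem goodFibres_of_geometrically {X T : Scheme.{u}} (g : X ⟶ T) [UniversallyClosed g] [GeometricallyConnected g]
    [GeometricallyReduced g] : GoodFibres g := by
  intro K _ y Z p q h s hs ψ hψ
  haveI : UniversallyClosed q := MorphismProperty.of_isPullback h ‹_›
  haveI : IsReduced Z := GeometricallyReduced.geometrically_isReduced _ _ _ h
  haveI : ConnectedSpace Z := GeometricallyConnected.geometrically_connectedSpace _ _ _ h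
  exact eq_zero_of_section_field q s hs ψ hψ

variable {X T : Scheme.{u}} (g : X ⟶ T) [IsProper g] [Flat g] [LocallyOfFinitePresentation g]
  (hg : GoodFibres g) (σ : T ⟶ X) (hσ : σ ≫ g = 𝟙 T)

include hg hσ

/-- `Γ(T) = Γ(X)` in the presence of a section. -/
theorem bijective_appTop_of_section : Function.Bijective g.appTop := by
  have h : ∀ a, σ.appTop (g.appTop a) = a := fun a => by
    rw [← CommRingCat.comp_apply, ← Scheme.Hom.comp_appTop, hσ]
    rfl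
  refine ⟨fun a b e => by rw [← h a, ← h b, e], fun φ => ⟨σ.appTop φ, ?_⟩⟩
  refine sub_eq_zero.1 (eq_zero_of_section g hg σ hσ _ ?_)
  rw [map_sub, h, sub_self]

/-- Morphisms to an affine scheme agreeing on the section agree. -/
theorem eq_of_section {V : Scheme.{u}} [IsAffine V] (a b : X ⟶ V) (h : σ ≫ a = σ ≫ b) : a = b := by
  refine ext_of_isAffine (CommRingCat.hom_ext (RingHom.ext fun v => ?_))
  refine sub_eq_zero.1 (eq_zero_of_section g hg σ hσ _ ?_)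
  have e := congrArg (fun m => m.appTop v) h
  simp only [Scheme.Hom.comp_appTop, CommRingCat.comp_apply] at e
  exact (map_sub σ.appTop.hom _ _).trans (sub_eq_zero.2 e)

/-- Locally around a collapsed fibre `f` factors through the section. -/
theorem exists_eq_section_of_collapsed {Y : Scheme.{u}} (f : X ⟶ Y) (t : T)
    (ht : (f '' (g ⁻¹' {t})).Subsingleton) :
    ∃ U : T.Opens, t ∈ U ∧ (g ⁻¹ᵁ U).ι ≫ f = (g ⁻¹ᵁ U).ι ≫ g ≫ σ ≫ f := by
  obtain ⟨V, hV, hyV, -⟩ := exists_isAffineOpen_mem_and_subset (X := Y) (x := f (σ t)) (U := ⊤) trivial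
  have hσt : g (σ t) = t := by rw [← Scheme.Hom.comp_apply, hσ]; rfl
  let C : Set T := g '' ((f ⁻¹ᵁ V : X.Opens) : Set X)ᶜ
  have hC : IsClosed C := g.isClosedMap _ (f ⁻¹ᵁ V).2.isClosed_compl
  have htC : t ∉ C := by
    rintro ⟨x, hx, hxt⟩
    exact hx (show f x ∈ V from ht ⟨σ t, hσt, rfl⟩ ⟨x, hxt, rfl⟩ ▸ hyV)
  let U : T.Opens := (⟨Cᶜ, hC.isOpen_compl⟩ : T.Opens) ⊓ (σ ≫ f) ⁻¹ᵁ V
  refine ⟨U, ⟨htC, by change (σ ≫ f) t ∈ V; rw [Scheme.Hom.comp_apply]; exact hyV⟩, ?_⟩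
  haveI : IsAffine (V : Scheme.{u}) := hV
  let σ' : (U : Scheme.{u}) ⟶ (g ⁻¹ᵁ U : X.Opens) := IsOpenImmersion.lift (g ⁻¹ᵁ U).ι (U.ι ≫ σ) (by
    rintro _ ⟨u, rfl⟩
    rw [Scheme.Opens.range_ι, Scheme.Hom.comp_apply]
    change g (σ (U.ι u)) ∈ U
    rw [← Scheme.Hom.comp_apply, hσ]
    exact u.2)
  have hσ'ι : σ' ≫ (g ⁻¹ᵁ U).ι = U.ι ≫ σ := IsOpenImmersion.lift_fac _ _ _
  have hσ' : σ' ≫ (g ∣_ U) = 𝟙 _ := by
    rw [← cancel_mono U.ι, Category.assoc, morphismRestrict_ι, ← Category.assoc, hσ'ι, Category.assoc, hσ,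
      Category.comp_id, Category.id_comp]
  haveI : IsProper (g ∣_ U) := MorphismProperty.of_isPullback (isPullback_morphismRestrict g U).flip ‹_›
  haveI : LocallyOfFinitePresentation (g ∣_ U) :=
    MorphismProperty.of_isPullback (isPullback_morphismRestrict g U).flip ‹_›
  have h1 : Set.range ((g ⁻¹ᵁ U).ι ≫ f) ⊆ Set.range V.ι := by
    rintro _ ⟨x, rfl⟩
    rw [Scheme.Opens.range_ι, Scheme.Hom.comp_apply]
    by_contra hx
    exact x.2.1 ⟨_, hx, rfl⟩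
  have h2 : Set.range ((g ⁻¹ᵁ U).ι ≫ g ≫ σ ≫ f) ⊆ Set.range V.ι := by
    rintro _ ⟨x, rfl⟩
    rw [Scheme.Opens.range_ι, Scheme.Hom.comp_apply, Scheme.Hom.comp_apply]
    exact x.2.2
  let a : (g ⁻¹ᵁ U : X.Opens).toScheme ⟶ V := IsOpenImmersion.lift V.ι _ h1
  let b : (g ⁻¹ᵁ U : X.Opens).toScheme ⟶ V := IsOpenImmersion.lift V.ι _ h2
  have hab : a = b := by
    refine eq_of_section (g ∣_ U) (hg.of_isPullback (isPullback_morphismRestrict g U).flip) σ' hσ' a b ?_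
    rw [← cancel_mono V.ι]
    simp only [a, b, Category.assoc, IsOpenImmersion.lift_fac]
    rw [reassoc_of% hσ'ι, reassoc_of% hσ'ι]
    rw [reassoc_of% hσ]
  have e := congrArg (· ≫ V.ι) hab
  simpa only [a, b, IsOpenImmersion.lift_fac] using e

/-- **Rigidity with a section.** -/
theorem exists_clopen_eq_section {S Y : Scheme.{u}} (p : T ⟶ S) (q : Y ⟶ S) [IsSeparated q] (f : X ⟶ Y)
    (hf : f ≫ q = g ≫ p) :
    ∃ W : T.Opens, IsClosed (W : Set T) ∧ (∀ t, t ∈ W ↔ (f '' (g ⁻¹' {t})).Subsingleton) ∧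
      (g ⁻¹ᵁ W).ι ≫ f = (g ⁻¹ᵁ W).ι ≫ g ≫ σ ≫ f := by
  let X' : Over S := Over.mk (g ≫ p)
  let f₁ : X' ⟶ Over.mk q := Over.homMk f hf
  let f₂ : X' ⟶ Over.mk q := Over.homMk (g ≫ σ ≫ f) (by
    simp only [X', Over.mk_left, Over.mk_hom, Category.assoc, hf]
    rw [reassoc_of% hσ])
  haveI : IsSeparated (Over.mk q).hom := ‹IsSeparated q›
  let e : (equalizer f₁ f₂).left ⟶ X := (equalizer.ι f₁ f₂).left
  haveI : IsClosedImmersion e := inferInstanceAs (IsClosedImmersion (equalizer.ι f₁ f₂).left)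
  have hopen : IsOpen (g '' (Set.range e)ᶜ) :=
    g.isOpenMap _ e.isClosedEmbedding.isClosed_range.isOpen_compl
  have hσt : ∀ t, g (σ t) = t := fun t => by rw [← Scheme.Hom.comp_apply, hσ]; rfl
  have hE : ∀ t, t ∉ g '' (Set.range e)ᶜ → (f '' (g ⁻¹' {t})).Subsingleton := by
    intro t ht
    suffices h : ∀ x, g x = t → f x = f (σ t) by
      rintro _ ⟨x, hx, rfl⟩ _ ⟨x', hx', rfl⟩
      rw [h x hx, h x' hx']
    intro x hx
    obtain ⟨z, rfl⟩ : x ∈ Set.range e := by_contra fun h => ht ⟨x, h, hx⟩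
    have he : e ≫ f = e ≫ g ≫ σ ≫ f := congrArg CommaMorphism.left (equalizer.condition f₁ f₂)
    rw [← Scheme.Hom.comp_apply, he, Scheme.Hom.comp_apply, Scheme.Hom.comp_apply, hx, Scheme.Hom.comp_apply]
  have hsub : ∀ (U : T.Opens), (g ⁻¹ᵁ U).ι ≫ f = (g ⁻¹ᵁ U).ι ≫ g ≫ σ ≫ f →
      ∀ t ∈ U, t ∉ g '' (Set.range e)ᶜ := by
    rintro U hU t ht ⟨x, hx, rfl⟩
    let m : Over.mk ((g ⁻¹ᵁ U).ι ≫ g ≫ p) ⟶ X' := Over.homMk (g ⁻¹ᵁ U).ι rfl
    let l := equalizer.lift m (Over.OverMorphism.ext (hU : m.left ≫ f₁.left = m.left ≫ f₂.left) : m ≫ f₁ = m ≫ f₂)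
    refine hx ⟨l.left ⟨x, ht⟩, ?_⟩
    change (l.left ≫ e) ⟨x, ht⟩ = x
    rw [show l.left ≫ e = m.left by rw [← Over.comp_left, equalizer.lift_ι]]
    rfl
  have hWopen : IsOpen (g '' (Set.range e)ᶜ)ᶜ := by
    rw [isOpen_iff_forall_mem_open]
    intro t ht
    obtain ⟨U, htU, hU⟩ := exists_eq_section_of_collapsed g hg σ hσ f t (hE t ht)
    exact ⟨U, fun t' ht' => hsub U hU t' ht', U.2, htU⟩
  let W : T.Opens := ⟨_, hWopen⟩
  refine ⟨W, hopen.isClosed_compl, fun t => ⟨hE t, fun h => ?_⟩, ?_⟩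
  · obtain ⟨U, htU, hU⟩ := exists_eq_section_of_collapsed g hg σ hσ f t h
    exact hsub U hU t htU
  · refine hom_ext_of_forall _ _ fun x => ?_
    obtain ⟨U, htU, hU⟩ := exists_eq_section_of_collapsed g hg σ hσ f (g x.1) (hE _ x.2)
    refine ⟨(g ⁻¹ᵁ W).ι ⁻¹ᵁ (g ⁻¹ᵁ U), htU, ?_⟩
    have hle : Set.range (((g ⁻¹ᵁ W).ι ⁻¹ᵁ (g ⁻¹ᵁ U)).ι ≫ (g ⁻¹ᵁ W).ι) ⊆ Set.range (g ⁻¹ᵁ U).ι := by
      rintro _ ⟨z, rfl⟩
      rw [Scheme.Opens.range_ι, Scheme.Hom.comp_apply]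
      exact z.2
    rw [← Category.assoc, ← Category.assoc _ _ (g ≫ σ ≫ f), ← IsOpenImmersion.lift_fac _ _ hle,
      Category.assoc, Category.assoc, hU]

omit hσ

/-- **The rigidity lemma.** -/
theorem exists_clopen_factor [Surjective g] {S Y : Scheme.{u}} (p : T ⟶ S) (q : Y ⟶ S) [IsSeparated q] (f : X ⟶ Y)
    (hf : f ≫ q = g ≫ p) :
    ∃ W : T.Opens, IsClosed (W : Set T) ∧ (∀ t, t ∈ W ↔ (f '' (g ⁻¹' {t})).Subsingleton) ∧
      ∃! k : (W : Scheme.{u}) ⟶ Y, (g ⁻¹ᵁ W).ι ≫ f = (g ∣_ W) ≫ k := by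
  let pr₁ := pullback.fst g g
  let pr₂ := pullback.snd g g
  haveI : Flat pr₂ := inferInstanceAs (Flat (pullback.snd g g))
  obtain ⟨W', hW'c, hW', hW'eq⟩ := exists_clopen_eq_section pr₂
    (hg.of_isPullback (IsPullback.of_hasPullback g g)) (pullback.diagonal g)
    (pullback.diagonal_snd g) (g ≫ p) q (pr₁ ≫ f) (by rw [Category.assoc, hf, pullback.condition_assoc])
  have himg : ∀ x, (pr₁ ≫ f) '' (pr₂ ⁻¹' {x}) = f '' (g ⁻¹' {g x}) := by
    intro x
    ext y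
    constructor
    · rintro ⟨z, hz, rfl⟩
      exact ⟨pr₁ z, by
        rw [Set.mem_preimage, Set.mem_singleton_iff, ← Scheme.Hom.comp_apply, pullback.condition,
          Scheme.Hom.comp_apply, hz], rfl⟩
    · rintro ⟨x', hx', rfl⟩
      obtain ⟨z, hz₁, hz₂⟩ := Scheme.Pullback.exists_preimage_pullback x' x hx'
      exact ⟨z, hz₂, by rw [Scheme.Hom.comp_apply, hz₁]⟩
  let Ws : Set T := {t | (f '' (g ⁻¹' {t})).Subsingleton}
  have hpre : g ⁻¹' Ws = (W' : Set X) := Set.ext fun x => by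
    rw [SetLike.mem_coe, hW' x, himg]; rfl
  have hq : Topology.IsQuotientMap g := g.isOpenMap.isQuotientMap g.continuous g.surjective
  refine ⟨⟨Ws, hq.isOpen_preimage.1 (by rw [hpre]; exact W'.2)⟩,
    hq.isClosed_preimage.1 (show IsClosed (g ⁻¹' Ws) by rw [hpre]; exact hW'c),
    fun t => Iff.rfl, ?_⟩
  set W : T.Opens := ⟨Ws, hq.isOpen_preimage.1 (by rw [hpre]; exact W'.2)⟩
  haveI : QuasiCompact (g ∣_ W) :=
    MorphismProperty.of_isPullback (isPullback_morphismRestrict g W).flip (inferInstanceAs (QuasiCompact g))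
  haveI : Surjective (g ∣_ W) :=
    MorphismProperty.of_isPullback (isPullback_morphismRestrict g W).flip (inferInstanceAs (Surjective g))
  have hglue : ∀ {Z : Scheme.{u}} (a b : Z ⟶ (g ⁻¹ᵁ W : X.Opens)), a ≫ (g ∣_ W) = b ≫ (g ∣_ W) →
      a ≫ (g ⁻¹ᵁ W).ι ≫ f = b ≫ (g ⁻¹ᵁ W).ι ≫ f := by
    intro Z a b hab
    have e : (a ≫ (g ⁻¹ᵁ W).ι) ≫ g = (b ≫ (g ⁻¹ᵁ W).ι) ≫ g := by
      simpa only [Category.assoc, ← morphismRestrict_ι] using congrArg (· ≫ W.ι) hab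
    let c : Z ⟶ pullback g g := pullback.lift _ _ e
    have hc : Set.range c ⊆ Set.range (pr₂ ⁻¹ᵁ W').ι := by
      rintro _ ⟨z, rfl⟩
      rw [Scheme.Opens.range_ι]
      change pr₂ (c z) ∈ (W' : Set X)
      rw [← hpre, ← Scheme.Hom.comp_apply, pullback.lift_snd, Scheme.Hom.comp_apply]
      exact (b z).2
    have h := congrArg (IsOpenImmersion.lift _ c hc ≫ ·) hW'eq
    simp only [IsOpenImmersion.lift_fac_assoc, pr₁, pr₂, c, pullback.lift_fst_assoc, pullback.lift_snd_assoc,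
      pullback.diagonal_fst_assoc, Category.assoc] at h
    exact h
  refine ⟨EffectiveEpi.desc (g ∣_ W) ((g ⁻¹ᵁ W).ι ≫ f) (fun a b hab => hglue a b hab),
    (EffectiveEpi.fac (g ∣_ W) _ _).symm, fun k hk => ?_⟩
  rw [← cancel_epi (g ∣_ W), EffectiveEpi.fac]
  exact hk.symm

/-- If every fibre is collapsed then `f` factors uniquely through `g`, compatibly with the base. -/
theorem exists_factor_of_forall [Surjective g] {S Y : Scheme.{u}} (p : T ⟶ S) (q : Y ⟶ S) [IsSeparated q]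
    (f : X ⟶ Y) (hf : f ≫ q = g ≫ p) (h : ∀ t, (f '' (g ⁻¹' {t})).Subsingleton) :
    ∃! k : T ⟶ Y, k ≫ q = p ∧ f = g ≫ k := by
  obtain ⟨W, -, hW, k, hk, -⟩ := exists_clopen_factor g hg p q f hf
  have hWtop : W = ⊤ := top_le_iff.1 fun t _ => (hW t).2 (h t)
  subst hWtop
  haveI : IsIso (Scheme.Opens.ι (⊤ : T.Opens)) := by
    rw [← Scheme.topIso_hom]; infer_instance
  haveI : IsIso (g ⁻¹ᵁ ⊤).ι := by
    have : (g ⁻¹ᵁ ⊤ : X.Opens) = ⊤ := rfl
    rw [this, ← Scheme.topIso_hom]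
    infer_instance
  let k₀ : T ⟶ Y := inv (Scheme.Opens.ι (⊤ : T.Opens)) ≫ k
  have hk₀ : f = g ≫ k₀ := by
    rw [← cancel_epi (g ⁻¹ᵁ ⊤).ι, hk, ← morphismRestrict_ι_assoc, IsIso.hom_inv_id_assoc]
  refine ⟨k₀, ⟨?_, hk₀⟩, fun k' hk' => ?_⟩
  · rw [← cancel_epi g, ← hf, hk₀]
    simp only [k₀, Category.assoc]
  · rw [← cancel_epi g, ← hk'.2, hk₀]

/-- Over a connected base one collapsed fibre suffices. -/
theorem exists_factor_of_connected [Surjective g] [PreconnectedSpace T] {S Y : Scheme.{u}} (p : T ⟶ S)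
    (q : Y ⟶ S) [IsSeparated q] (f : X ⟶ Y) (hf : f ≫ q = g ≫ p) (t : T)
    (ht : (f '' (g ⁻¹' {t})).Subsingleton) : ∃! k : T ⟶ Y, k ≫ q = p ∧ f = g ≫ k := by
  refine exists_factor_of_forall g hg p q f hf fun t' => ?_
  obtain ⟨W, hWc, hW, -⟩ := exists_clopen_factor g hg p q f hf
  rcases isClopen_iff.1 ⟨hWc, W.2⟩ with h | h
  · exact absurd ((hW t).2 ht) (fun hh => (h ▸ (hh : t ∈ (W : Set T)) : t ∈ (∅ : Set T)))
  · exact (hW t').1 (Set.eq_univ_iff_forall.1 h t')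

end Groth.Agent.Rigid
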