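import Groth.Agent.Rigid.FibreTranslate
import Groth.Agent.Unibranch.UpperSemicont
import Groth.Agent.Unibranch.ComponentDim
import Groth.Agent.GrpField.Dimension

/-!
# Fibres of morphisms out of abelian varieties are equidimensional
-/

universe u

open CategoryTheory CategoryTheory.Limits MonoidalCategory CartesianMonoidalCategory MonObj AlgebraicGeometry TopologicalSpace Groth.Agent.Unibranch

namespace Groth.Agent.Rigid

/-- Connected components are open when there are finitely many irreducible components. -/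
theorem isOpen_connectedComponent_of_finite {α : Type*} [TopologicalSpace α]
    (h : (irreducibleComponents α).Finite) (x : α) : IsOpen (connectedComponent x) := by
  have e : (connectedComponent x)ᶜ = ⋃ Z ∈ {Z ∈ irreducibleComponents α | Disjoint Z (connectedComponent x)}, Z := by
    ext z
    simp only [Set.mem_compl_iff, Set.mem_iUnion, Set.mem_setOf_eq, exists_prop]
    refine ⟨fun hz => ⟨irreducibleComponent z, ⟨irreducibleComponent_mem_irreducibleComponents z, ?_⟩,
      mem_irreducibleComponent⟩, fun ⟨Z, ⟨_, hd⟩, hzZ⟩ => Set.disjoint_left.1 hd hzZ⟩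
    refine Set.disjoint_left.2 fun w hw hwc => hz ?_
    have := isIrreducible_irreducibleComponent.isConnected.isPreconnected.subset_connectedComponent hw
      (mem_irreducibleComponent (x := z))
    rwa [connectedComponent_eq hwc] at *
  rw [← isClosed_compl_iff, e]
  exact (h.subset (Set.sep_subset _ _)).isClosed_biUnion fun Z hZ => isClosed_of_mem_irreducibleComponents Z hZ.1

theorem specializes_last {X : Scheme.{u}} {k : ℕ} {c : Fin (k + 1) → X} (hc : IsChain' c) :
    ∀ i, c i ⤳ c (Fin.last k) := by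
  intro i
  induction i using Fin.reverseInduction with
  | last => exact specializes_rfl
  | cast i hi => exact (hc i).1.trans hi

variable {k : Type u} [Field k]

/-- The condition that all fibre components have dimension `d`. -/
def FibresEquidim {X Y : Scheme.{u}} (f : X ⟶ Y) (d : ℕ) : Prop :=
  ∀ m : X, (∀ w, f w = f m → w ⤳ m → w = m) →
    ChainsLE f (closure {m}) (f m) d ∧ HasChain f (closure {m}) (f m) d

variable {X : Over (Spec (CommRingCat.of k))} [GrpObj X] [IsProper X.hom] [ConnectedSpace X.left]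
  {Y : Scheme.{u}} (q : Y ⟶ Spec (CommRingCat.of k)) [IsSeparated q] (f : X.left ⟶ Y) (hf : f ≫ q = X.hom)

include hf

theorem exists_open_inter_subset_fibComp (x : 𝟙_ (Over (Spec (CommRingCat.of k))) ⟶ X) :
    ∃ V : Set X.left, IsOpen V ∧ ptOf x ∈ V ∧ V ∩ f ⁻¹' {f (ptOf x)} ⊆ fibComp f x := by
  haveI : IsLocallyNoetherian X.left := LocallyOfFiniteType.isLocallyNoetherian X.hom
  haveI : CompactSpace X.left := HasAffineProperty.iff_of_isAffine.mp (inferInstance : QuasiCompact X.hom)
  haveI : AlgebraicGeometry.IsNoetherian X.left := {}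
  let F : Set X.left := f ⁻¹' {f (ptOf x)}
  haveI : NoetherianSpace F := inferInstance
  obtain ⟨V, hV, hVe⟩ := isOpen_induced_iff.1
    (isOpen_connectedComponent_of_finite NoetherianSpace.finite_irreducibleComponents (⟨ptOf x, rfl⟩ : F))
  refine ⟨V, hV, ?_, fun z hz => ?_⟩
  · have : (⟨ptOf x, rfl⟩ : F) ∈ Subtype.val ⁻¹' V := by rw [hVe]; exact mem_connectedComponent
    exact this
  · rw [fibComp, connectedComponentIn_eq_image (show ptOf x ∈ F from rfl)]
    exact ⟨⟨z, hz.2⟩, hVe.le (show (⟨z, hz.2⟩ : F) ∈ Subtype.val ⁻¹' V from hz.1), rfl⟩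

variable [PerfectField k]

/-- Fibres look alike at rational points. -/
theorem hasChain_ptOf_iff (x : 𝟙_ (Over (Spec (CommRingCat.of k))) ⟶ X) (j : ℕ) :
    (∀ U : X.left.Opens, ptOf x ∈ U → HasChain f U (f (ptOf x)) j) ↔
      ∀ U : X.left.Opens, ptOf (1 : 𝟙_ (Over (Spec (CommRingCat.of k))) ⟶ X) ∈ U →
        HasChain f U (f (ptOf (1 : 𝟙_ (Over (Spec (CommRingCat.of k))) ⟶ X))) j := by
  let o : 𝟙_ (Over (Spec (CommRingCat.of k))) ⟶ X := 1
  have himg := ltr_image_fibComp q f hf x
  have ho : (ltr x).left (ptOf o) = ptOf x := (ltr_ptOf x o).trans (by rw [_root_.mul_one])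
  have hsub : ∀ y, fibComp f y ⊆ f ⁻¹' {f (ptOf y)} := fun y => connectedComponentIn_subset _ _
  obtain ⟨V, hVo, hoV, hV⟩ := exists_open_inter_subset_fibComp q f hf o
  obtain ⟨V', hV'o, hxV', hV'⟩ := exists_open_inter_subset_fibComp q f hf x
  let T := ltrHomeo x
  constructor
  · intro h U hU
    let U' : X.left.Opens := ⟨T '' U ∩ V', (T.isOpenMap _ U.2).inter hV'o⟩
    obtain ⟨c, hc, hc'⟩ := h U' ⟨⟨_, hU, ho⟩, hxV'⟩
    refine ⟨fun i => T.symm (c i), fun i => ?_, fun i => ⟨(hc' i).1.map T.symm.continuous,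
      fun e => (hc' i).2 (T.symm.injective e)⟩⟩
    obtain ⟨⟨u, huU, hu⟩, hcV⟩ := (hc i).1
    have hu' : T.symm (c i) = u := by rw [← hu]; exact T.symm_apply_apply u
    change T.symm (c i) ∈ U ∧ f (T.symm (c i)) = _
    refine ⟨hu'.symm ▸ huU, ?_⟩
    obtain ⟨w, hw, hwc⟩ := himg.ge (hV' ⟨hcV, (hc i).2⟩)
    have : T.symm (c i) = w := by rw [← hwc]; exact T.symm_apply_apply w
    rw [this]
    exact hsub o hw
  · intro h U hU
    let U' : X.left.Opens := ⟨T ⁻¹' U ∩ V, (U.2.preimage T.continuous).inter hVo⟩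
    obtain ⟨c, hc, hc'⟩ := h U' ⟨show T (ptOf o) ∈ U from ho.symm ▸ hU, hoV⟩
    refine ⟨fun i => T (c i), fun i => ?_, fun i => ⟨(hc' i).1.map T.continuous,
      fun e => (hc' i).2 (T.injective e)⟩⟩
    exact ⟨(hc i).1.1, hsub x (himg.le ⟨c i, hV ⟨(hc i).1.2, (hc i).2⟩, rfl⟩)⟩

omit [PerfectField k] in
/-- **Equidimensionality over an algebraically closed field.** -/
theorem exists_fibresEquidim_of_isAlgClosed [IsAlgClosed k] : ∃ d, FibresEquidim f d := by
  haveI : LocallyOfFiniteType (f ≫ q) := by rw [hf]; infer_instance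
  haveI : LocallyOfFiniteType f := locallyOfFiniteType_of_comp f q
  haveI : JacobsonSpace X.left := LocallyOfFiniteType.jacobsonSpace X.hom
  let o : 𝟙_ (Over (Spec (CommRingCat.of k))) ⟶ X := 1
  obtain ⟨d, hd⟩ := exists_fibreDimAt_eq f (ptOf o)
  have hclosed : ∀ c : X.left, IsClosed ({c} : Set X.left) →
      (∃ U : X.left.Opens, c ∈ U ∧ ∀ y, ChainsLE f U y d) ∧
        ∀ U : X.left.Opens, c ∈ U → HasChain f U (f c) d := by
    intro c hc
    let x : 𝟙_ (Over (Spec (CommRingCat.of k))) ⟶ X :=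
      Over.homMk (pointOfClosedPoint X.hom c hc) (pointOfClosedPoint_comp X.hom c hc)
    have hx : ptOf x = c := pointOfClosedPoint_apply X.hom c hc _
    have h : ∀ j : ℕ, (j : WithBot ℕ∞) ≤ FlatMor.fibreDimAt f c ↔ (j : WithBot ℕ∞) ≤ FlatMor.fibreDimAt f (ptOf o) := by
      intro j
      rw [natCast_le_fibreDimAt_iff, natCast_le_fibreDimAt_iff, ← hx]
      exact hasChain_ptOf_iff q f hf x j
    refine ⟨?_, (natCast_le_fibreDimAt_iff f c).1 ((h d).2 hd.ge)⟩
    obtain ⟨U, hcU, hU⟩ := (fibreDimAt_le_iff f c).1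
      (natCast_le_iff_of_le_iff.2 fun j hj => ENat.natCast_le_natCast.1 (WithBot.coe_le_coe.1
        (((h j).1 hj).trans hd.le)))
    obtain ⟨U', h1, -, h2⟩ := exists_opens_chainsLE f hcU hU
    exact ⟨U', h1, h2⟩
  have hall : ∀ z : X.left, ∃ U : X.left.Opens, z ∈ U ∧ ∀ y, ChainsLE f U y d := by
    intro z
    obtain ⟨c, hcz, hc⟩ := nonempty_inter_closedPoints (Z := closure ({z} : Set X.left)) ⟨z, subset_closure rfl⟩
      isClosed_closure.isLocallyClosed
    obtain ⟨U, hcU, hU⟩ := (hclosed c hc).1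
    exact ⟨U, (specializes_iff_mem_closure.2 hcz).mem_open U.2 hcU, hU⟩
  refine ⟨d, fun m hm => ⟨fun j c hc hc' => ?_, ?_⟩⟩
  · obtain ⟨U, hlU, hU⟩ := hall (c (Fin.last j))
    exact hU (f m) j c (fun i => ⟨(specializes_last hc' i).mem_open U.2 hlU, (hc i).2⟩) hc'
  · refine hasChain_closure_of_maximal f m (fun x' h1 h2 => hm x' h1 (specializes_iff_mem_closure.2 h2))
      ((natCast_le_fibreDimAt_iff f m).2 fun U hU => hasChain_of_forall_le ⟨m, hU, rfl⟩ fun e he => ?_)
    obtain ⟨U', hmU', -, hU'⟩ := exists_opens_chainsLE f hU he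
    obtain ⟨c, hcU', hc⟩ := nonempty_inter_closedPoints (Z := (U' : Set X.left)) ⟨m, hmU'⟩
      U'.2.isLocallyClosed
    exact ((hclosed c hc).2 U' hcU').le (hU' _)

end Groth.Agent.Rigid

namespace Groth.Agent.Rigid

/-- Chains of specialisations lift along universally closed morphisms. -/
theorem exists_lift_chain {X X' : Scheme.{u}} (π : X' ⟶ X) [UniversallyClosed π] :
    ∀ (j : ℕ) (c : Fin (j + 1) → X), (∀ i : Fin j, c i.castSucc ⤳ c i.succ) → ∀ a : X', π a ⤳ c 0 →
      ∃ c' : Fin (j + 1) → X', (∀ i, π (c' i) = c i) ∧ a ⤳ c' 0 ∧ ∀ i : Fin j, c' i.castSucc ⤳ c' i.succ := by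
  have key : ∀ (a : X') (z : X), π a ⤳ z → ∃ b, a ⤳ b ∧ π b = z := by
    intro a z h
    have hcl := π.isClosedMap _ (isClosed_closure (s := ({a} : Set X')))
    obtain ⟨b, hb, hbz⟩ := h.mem_closed hcl ⟨a, subset_closure rfl, rfl⟩
    exact ⟨b, specializes_iff_mem_closure.2 hb, hbz⟩
  intro j
  induction j with
  | zero =>
    intro c _ a ha
    obtain ⟨b, hab, hb⟩ := key a _ ha
    exact ⟨fun _ => b, fun i => by rw [hb, Fin.eq_zero i], hab, fun i => i.elim0⟩
  | succ j ih =>
    intro c hc a ha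
    obtain ⟨b, hab, hb⟩ := key a _ ha
    obtain ⟨c', h1, h2, h3⟩ := ih (fun i => c i.succ) (fun i => hc i.succ) b (hb ▸ hc 0)
    refine ⟨Fin.cons b c', fun i => ?_, hab, fun i => ?_⟩
    · refine Fin.cases ?_ (fun i => ?_) i
      · exact hb
      · exact h1 i
    · refine Fin.cases ?_ (fun i => ?_) i
      · exact h2
      · exact h3 i

/-- Equidimensionality of fibres descends along integral surjective morphisms. -/
theorem FibresEquidim.of_integral {X X' Y Y' : Scheme.{u}} {f : X ⟶ Y} {f' : X' ⟶ Y'} (π : X' ⟶ X)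
    (ρ : Y' ⟶ Y) [IsIntegralHom π] [Surjective π] [IsIntegralHom ρ] (e : f' ≫ ρ = π ≫ f) {d : ℕ}
    (h : FibresEquidim f' d) : FibresEquidim f d := by
  intro m hm
  obtain ⟨m', rfl⟩ := π.surjective m
  have he : ∀ z, ρ (f' z) = f (π z) := fun z => by
    rw [← Scheme.Hom.comp_apply, e, Scheme.Hom.comp_apply]
  obtain ⟨hle, c, hc, hc'⟩ := h m' fun w hw hwm => GrpField.eq_of_specializes_of_isIntegralHom π hwm
    (hm _ (by rw [← he, ← he, hw]) (hwm.map π.continuous))
  refine ⟨fun j c hc hc' => ?_, ⟨fun i => π (c i), fun i => ⟨specializes_iff_mem_closure.1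
      ((specializes_iff_mem_closure.2 (hc i).1).map π.continuous), by rw [← he, (hc i).2, he]⟩,
    fun i => ⟨(hc' i).1.map π.continuous,
      fun e' => (hc' i).2 (GrpField.eq_of_specializes_of_isIntegralHom π (hc' i).1 e')⟩⟩⟩
  obtain ⟨c', h1, h2, h3⟩ := exists_lift_chain π j c (fun i => (hc' i).1) m'
    (specializes_iff_mem_closure.2 (hc 0).1)
  have hspec : ∀ i, m' ⤳ c' i := fun i => by
    induction i using Fin.induction with
    | zero => exact h2
    | succ i hi => exact hi.trans (h3 i)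
  refine hle j c' (fun i => ⟨specializes_iff_mem_closure.1 (hspec i), ?_⟩) fun i => ⟨h3 i, fun e' => (hc' i).2 ?_⟩
  · exact (GrpField.eq_of_specializes_of_isIntegralHom ρ ((hspec i).map f'.continuous)
      (by rw [he, he, h1, (hc i).2])).symm
  · rw [← h1, ← h1, e']

variable {k : Type u} [Field k]

attribute [local instance] Over.grpObjMkPullbackSnd

/-- **Equidimensionality over any field.** -/
theorem exists_fibresEquidim {X : Over (Spec (CommRingCat.of k))} [GrpObj X] [IsProper X.hom]
    [GeometricallyConnected X.hom] {Y : Scheme.{u}} (q : Y ⟶ Spec (CommRingCat.of k)) [IsSeparated q]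
    (f : X.left ⟶ Y) (hf : f ≫ q = X.hom) : ∃ d, FibresEquidim f d := by
  let k' := AlgebraicClosure k
  let g := Spec.map (CommRingCat.ofHom (algebraMap k k'))
  have : IsIntegralHom g := IsIntegralHom.SpecMap_iff.2 Algebra.IsIntegral.isIntegral
  have : Surjective g := GrpField.PointBase.surj k' g
  let X' : Over (Spec (CommRingCat.of k')) := Over.mk (pullback.snd X.hom g)
  have : GrpObj (Over.mk X.hom) := inferInstanceAs (GrpObj X)
  have : IsProper X'.hom := inferInstanceAs (IsProper (pullback.snd X.hom g))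
  have : IsSeparated (pullback.snd q g) := inferInstance
  have : ConnectedSpace X'.left :=
    GeometricallyConnected.geometrically_connectedSpace (f := X.hom) g _ _ (IsPullback.of_hasPullback X.hom g)
  let f' : X'.left ⟶ pullback q g := pullback.map X.hom g q g f (𝟙 _) (𝟙 _) (by simp [hf]) (by simp)
  obtain ⟨d, hd⟩ := exists_fibresEquidim_of_isAlgClosed (X := X') (pullback.snd q g) f'
    ((pullback.lift_snd _ _ _).trans (Category.comp_id _))
  have : IsIntegralHom (pullback.fst X.hom g) := MorphismProperty.pullback_fst _ _ ‹IsIntegralHom g›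
  have : IsIntegralHom (pullback.fst q g) := MorphismProperty.pullback_fst _ _ ‹IsIntegralHom g›
  exact ⟨d, hd.of_integral (pullback.fst X.hom g) (pullback.fst q g) (pullback.lift_fst _ _ _)⟩

/-- From the fibre condition to irreducible components of scheme-theoretic fibres. -/
theorem FibresEquidim.topologicalKrullDim_eq {X Y : Scheme.{u}} {f : X ⟶ Y} {d : ℕ} (h : FibresEquidim f d)
    (y : Y) {Z : Set ↥(f.fiber y)} (hZ : Z ∈ irreducibleComponents ↥(f.fiber y)) :
    topologicalKrullDim ↥Z = d := by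
  obtain ⟨ζ, hζ, hζZ⟩ := Unibranch.exists_isMaxPt (X := f.fiber y) hZ
  let inc := f.fiberι y
  let m := inc ζ
  have hmy : f m = y := by
    have h : m ∈ Set.range inc := ⟨ζ, rfl⟩
    rw [f.range_fiberι] at h
    exact h
  obtain ⟨h1, h2⟩ := h m fun w hw hwm => by
    obtain ⟨w₀, rfl⟩ : w ∈ Set.range inc := by rw [f.range_fiberι]; exact hw.trans hmy
    rw [hζ w₀ (inc.isEmbedding.isInducing.specializes_iff.1 hwm)]
  rw [hmy] at h1 h2
  have hZc : IsClosed Z := isClosed_of_mem_irreducibleComponents Z hZ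
  haveI : QuasiSober Z := hZc.isClosedEmbedding_subtypeVal.quasiSober
  have hj : Topology.IsEmbedding (fun z : Z => inc z.1) := inc.isEmbedding.comp Topology.IsEmbedding.subtypeVal
  have hr : Set.range (fun z : Z => inc z.1) = closure {m} ∩ f ⁻¹' {y} := by
    rw [← f.range_fiberι, ← hζZ, show (fun z : ↥(closure {ζ}) => inc z.1) = inc ∘ Subtype.val from rfl,
      Set.range_comp, Subtype.range_coe, inc.isEmbedding.closure_eq_preimage_closure_image,
      Set.image_singleton, Set.image_preimage_eq_inter_range]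
  exact le_antisymm ((Unibranch.topologicalKrullDim_le_iff f hj hr).2 h1)
    ((Unibranch.natCast_le_topologicalKrullDim_iff f hj hr).2 h2)

end Groth.Agent.Rigid
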