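import Groth.Agent.Rigid.Compat
import Groth.Agent.FlatSpread.Model
import Mathlib.RingTheory.Adjoin.FG

/-!
# Noetherian stages of flat finitely presented algebras inside the algebra

For a flat finitely presented `A`-algebra `E` the subalgebras `E₀ = D[G]`, `D ⊆ A` large enough and
finitely generated or any larger subring, are flat over `D` and `M ⊗_D E₀ = M ⊗_A E` for `A`-modules `M`.
-/

universe u

open TensorProduct

namespace Groth.Agent.Rigid

/-- The comparison `M ⊗_D T → M ⊗_A E` of a `D`-linear map `T → E`. -/
noncomputable def theta (A : Type u) {E : Type u} [CommRing A] [CommRing E] [Algebra A E] (D : Type u) [CommRing D]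
    [Algebra D A] [Algebra D E] [IsScalarTower D A E] {T : Type u} [AddCommGroup T] [Module D T]
    (f : T →ₗ[D] E) (M : Type u) [AddCommGroup M] [Module A M] [Module D M] [IsScalarTower D A M] :
    M ⊗[D] T →ₗ[D] M ⊗[A] E :=
  (TensorProduct.mapOfCompatibleSMul A D D M E).comp (f.lTensor M)

@[simp]
theorem theta_tmul {A E : Type u} [CommRing A] [CommRing E] [Algebra A E] (D : Type u) [CommRing D]
    [Algebra D A] [Algebra D E] [IsScalarTower D A E] {T : Type u} [AddCommGroup T] [Module D T]
    (f : T →ₗ[D] E) (M : Type u) [AddCommGroup M] [Module A M] [Module D M] [IsScalarTower D A M]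
    (m : M) (t : T) : theta A D f M (m ⊗ₜ t) = m ⊗ₜ f t := by
  simp [theta]

/-- Naturality of the comparison. -/
theorem theta_natural {A E F : Type u} [CommRing A] [CommRing E] [Algebra A E] [CommRing F] [Algebra A F]
    (D : Type u) [CommRing D] [Algebra D A] [Algebra D E] [IsScalarTower D A E] [Algebra D F] [IsScalarTower D A F]
    {T T' : Type u} [AddCommGroup T] [Module D T] [AddCommGroup T'] [Module D T']
    (f : T →ₗ[D] E) (g : T' →ₗ[D] F) (h : T →ₗ[D] T') (H : E →ₗ[A] F) (hc : ∀ t, g (h t) = H (f t))
    (M : Type u) [AddCommGroup M] [Module A M] [Module D M] [IsScalarTower D A M] (z : M ⊗[D] T) :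
    theta A D g M (h.lTensor M z) = H.lTensor M (theta A D f M z) := by
  induction z using TensorProduct.induction_on with
  | zero => simp
  | add z z' hz hz' => simp only [map_add, hz, hz']
  | tmul m t => simp [hc]

/-- The comparison and the right unit. -/
theorem theta_rid {A E : Type u} [CommRing A] [CommRing E] [Algebra A E] (D : Type u) [CommRing D]
    [Algebra D A] [Algebra D E] [IsScalarTower D A E] {T : Type u} [AddCommGroup T] [Module D T]
    (f : T →ₗ[D] E) (h : T →ₗ[D] D) (H : E →ₗ[A] A) (hc : ∀ t, H (f t) = algebraMap D A (h t))
    (M : Type u) [AddCommGroup M] [Module A M] [Module D M] [IsScalarTower D A M] (z : M ⊗[D] T) :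
    TensorProduct.rid A M (H.lTensor M (theta A D f M z)) = TensorProduct.rid D M (h.lTensor M z) := by
  induction z using TensorProduct.induction_on with
  | zero => simp
  | add z z' hz hz' => simp only [map_add, hz, hz']
  | tmul m t => simp [hc]

/-- A model of a base change makes the comparison bijective. -/
theorem theta_bijective_of_isPushout {A E R S : Type u} [CommRing A] [CommRing E] [Algebra A E] [CommRing R]
    [CommRing S] [Algebra R A] [Algebra R S] [Algebra S E] [Algebra R E] [IsScalarTower R A E]
    [IsScalarTower R S E] [Algebra.IsPushout R A S E] (M : Type u) [AddCommGroup M] [Module A M] [Module R M]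
    [IsScalarTower R A M] :
    Function.Bijective (theta A R (IsScalarTower.toAlgHom R S E).toLinearMap M) := by
  let e := (AlgebraTensorModule.cancelBaseChange R A A M S).symm.trans
    (AlgebraTensorModule.congr (LinearEquiv.refl A M) (Algebra.IsPushout.equiv R A S E).toLinearEquiv)
  have h : ∀ z, theta A R (IsScalarTower.toAlgHom R S E).toLinearMap M z = e z := by
    intro z
    induction z using TensorProduct.induction_on with
    | zero => simp
    | add z z' hz hz' => rw [map_add, map_add, hz, hz']
    | tmul m s => simp [e, Algebra.IsPushout.equiv_tmul]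
  rw [show (theta A R (IsScalarTower.toAlgHom R S E).toLinearMap M : M ⊗[R] S → M ⊗[A] E) = e from funext h]
  exact e.bijective

variable {A : Type u} [CommRing A] (E : Type u) [CommRing E] [Algebra A E]

/-- The stage `D[G] ⊆ E`. -/
abbrev stage (D : Subalgebra ℤ A) (G : Set E) : Subalgebra D E := Algebra.adjoin D G

/-- A presentation of all large stages. -/
theorem exists_stage [Algebra.FinitePresentation A E] [Module.Flat A E] :
    ∃ (G : Finset E) (P : Finset A), Algebra.adjoin A (G : Set E) = ⊤ ∧ ∀ D : Subalgebra ℤ A, (P : Set A) ⊆ D →
      Module.Flat D (stage E D G) ∧ ∀ (M : Type u) [AddCommGroup M] [Module A M],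
        Function.Bijective (theta A D (stage E D G).val.toLinearMap M) := by
  classical
  obtain ⟨R, _, _, S, _, _, _, _, _, _, hR, hS, hfl, hpo⟩ := Groth.Agent.FlatSpread.exists_model_algebra A E
  obtain ⟨PR, hPR⟩ := hR.out
  obtain ⟨GS, hGS⟩ := hS.out
  refine ⟨GS.image (algebraMap S E), PR.image (algebraMap R A), ?_, fun D hD => ?_⟩
  · refine top_le_iff.1 fun e htop => ?_
    obtain ⟨z, rfl⟩ := (Algebra.IsPushout.equiv R A S E).surjective e
    clear htop
    induction z using TensorProduct.induction_on with
    | zero => rw [map_zero]; exact zero_mem _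
    | add z z' hz hz' => rw [map_add]; exact add_mem hz hz'
    | tmul a s =>
      rw [Algebra.IsPushout.equiv_tmul]
      refine mul_mem (Subalgebra.algebraMap_mem _ a) ?_
      have hs : s ∈ Algebra.adjoin R (GS : Set S) := hGS ▸ Algebra.mem_top
      induction hs using Algebra.adjoin_induction with
      | mem x hx => exact Algebra.subset_adjoin (Finset.mem_image_of_mem _ hx)
      | algebraMap c =>
        rw [← IsScalarTower.algebraMap_apply R S E, IsScalarTower.algebraMap_apply R A E]
        exact Subalgebra.algebraMap_mem _ _
      | add x y _ _ hx hy => rw [map_add]; exact add_mem hx hy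
      | mul x y _ _ hx hy => rw [map_mul]; exact mul_mem hx hy
  · have hRD : ∀ c : R, algebraMap R A c ∈ D := fun c => by
      have hc : c ∈ Algebra.adjoin ℤ (PR : Set R) := hPR ▸ Algebra.mem_top
      induction hc using Algebra.adjoin_induction with
      | mem x hx => exact hD (Finset.mem_image_of_mem _ hx)
      | algebraMap n => rw [eq_intCast, map_intCast]; exact intCast_mem D n
      | add x y _ _ hx hy => rw [map_add]; exact add_mem hx hy
      | mul x y _ _ hx hy => rw [map_mul]; exact mul_mem hx hy
    letI : Algebra R D := ((algebraMap R A).codRestrict D hRD).toAlgebra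
    haveI : IsScalarTower R D A := IsScalarTower.of_algebraMap_eq fun _ => rfl
    haveI : IsScalarTower R D E := IsScalarTower.of_algebraMap_eq fun c => IsScalarTower.algebraMap_apply R A E c
    let j : D ⊗[R] S →ₐ[D] E :=
      Algebra.TensorProduct.lift (Algebra.ofId D E) (IsScalarTower.toAlgHom R S E) fun _ _ => Commute.all _ _
    have hjmul : ∀ (d : D) (s : S), j (d ⊗ₜ s) = algebraMap D E d * algebraMap S E s := fun d s => by
      simp [j, Algebra.ofId_apply]
    have hrange : j.range = stage E D (GS.image (algebraMap S E) : Finset E) := by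
      refine le_antisymm ?_ (Algebra.adjoin_le ?_)
      · rintro _ ⟨z, rfl⟩
        induction z using TensorProduct.induction_on with
        | zero => rw [map_zero]; exact zero_mem _
        | add z z' hz hz' => rw [map_add]; exact add_mem hz hz'
        | tmul d s =>
          change j (d ⊗ₜ s) ∈ _
          rw [hjmul]
          refine mul_mem (Subalgebra.algebraMap_mem _ d) ?_
          have hs : s ∈ Algebra.adjoin R (GS : Set S) := hGS ▸ Algebra.mem_top
          induction hs using Algebra.adjoin_induction with
          | mem x hx => exact Algebra.subset_adjoin (Finset.mem_image_of_mem _ hx)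
          | algebraMap c =>
            rw [← IsScalarTower.algebraMap_apply R S E, IsScalarTower.algebraMap_apply R D E]
            exact Subalgebra.algebraMap_mem _ _
          | add x y _ _ hx hy => rw [map_add]; exact add_mem hx hy
          | mul x y _ _ hx hy => rw [map_mul]; exact mul_mem hx hy
      · rintro _ hx
        obtain ⟨s, -, rfl⟩ := Finset.mem_image.1 hx
        exact ⟨1 ⊗ₜ s, by simp [hjmul]⟩
    have hj : Function.Injective j := by
      let θ := theta A R (IsScalarTower.toAlgHom R S E).toLinearMap A
      have h1 : Function.Injective θ := (theta_bijective_of_isPushout A).1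
      have h2 : Function.Injective ((IsScalarTower.toAlgHom R D A).toLinearMap.rTensor S) :=
        Module.Flat.rTensor_preserves_injective_linearMap _ Subtype.val_injective
      have h3 : ∀ z, j z = TensorProduct.lid A E (θ ((IsScalarTower.toAlgHom R D A).toLinearMap.rTensor S z)) := by
        intro z
        induction z using TensorProduct.induction_on with
        | zero => simp
        | add z z' hz hz' => simp only [map_add, hz, hz']
        | tmul d s => simp [θ, hjmul, Algebra.smul_def, IsScalarTower.algebraMap_apply D A E]
      intro z z' h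
      rw [h3, h3] at h
      exact h2 (h1 ((TensorProduct.lid A E).injective h))
    let e : D ⊗[R] S ≃ₐ[D] stage E D (GS.image (algebraMap S E) : Finset E) :=
      (AlgEquiv.ofInjective j hj).trans (Subalgebra.equivOfEq _ _ hrange)
    refine ⟨Module.Flat.of_linearEquiv e.symm.toLinearEquiv, fun M _ _ => ?_⟩
    letI : Module R M := Module.compHom M (algebraMap R A)
    haveI : IsScalarTower R A M := IsScalarTower.of_algebraMap_smul fun _ _ => rfl
    haveI : IsScalarTower R D M := IsScalarTower.of_algebraMap_smul fun _ _ => rfl
    let c₁ := (TensorProduct.AlgebraTensorModule.cancelBaseChange R D D M S).symm.trans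
      (LinearEquiv.lTensor M e.toLinearEquiv)
    have h : ∀ z, theta A D (stage E D (GS.image (algebraMap S E) : Finset E)).val.toLinearMap M (c₁ z) =
        theta A R (IsScalarTower.toAlgHom R S E).toLinearMap M z := by
      intro z
      induction z using TensorProduct.induction_on with
      | zero => simp
      | add z z' hz hz' => simp only [map_add, hz, hz']
      | tmul m s =>
        simp only [c₁, LinearEquiv.trans_apply, AlgebraTensorModule.cancelBaseChange_symm_tmul,
          LinearEquiv.lTensor_tmul, theta_tmul]
        congr 1
        change j (1 ⊗ₜ s) = _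
        simp [hjmul]
    have hc := theta_bijective_of_isPushout (A := A) (E := E) (R := R) (S := S) M
    rw [← funext h] at hc
    exact (Function.Bijective.of_comp_iff _ c₁.bijective).1 hc

/-- Every element of `E` lies in all large stages. -/
theorem exists_mem_stage {G : Set E} (hG : Algebra.adjoin A G = ⊤) (e : E) :
    ∃ P : Finset A, ∀ D : Subalgebra ℤ A, (P : Set A) ⊆ D → e ∈ stage E D G := by
  classical
  have he : e ∈ Algebra.adjoin A G := hG ▸ Algebra.mem_top
  induction he using Algebra.adjoin_induction with
  | mem x hx => exact ⟨∅, fun D _ => Algebra.subset_adjoin hx⟩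
  | algebraMap c => exact ⟨{c}, fun D hD => (stage E D G).algebraMap_mem ⟨c, hD (by simp)⟩⟩
  | add x y _ _ hx hy =>
    obtain ⟨P, hP⟩ := hx
    obtain ⟨P', hP'⟩ := hy
    exact ⟨P ∪ P', fun D hD => add_mem (hP D fun a ha => hD (by simp [ha]))
      (hP' D fun a ha => hD (by simp [ha]))⟩
  | mul x y _ _ hx hy =>
    obtain ⟨P, hP⟩ := hx
    obtain ⟨P', hP'⟩ := hy
    exact ⟨P ∪ P', fun D hD => mul_mem (hP D fun a ha => hD (by simp [ha]))
      (hP' D fun a ha => hD (by simp [ha]))⟩

end Groth.Agent.Rigid
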