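import Groth.Agent.Rigid.Lemma
import Mathlib.AlgebraicGeometry.ResidueField
import Mathlib.RingTheory.Flat.Basic

/-!
# Good fibres from `κ(t) = H⁰(X_t, O)`
-/

universe u

open CategoryTheory CategoryTheory.Limits AlgebraicGeometry TopologicalSpace

namespace Groth.Agent.Rigid

/-- If every fibre has only constant functions the fibres are good. -/
theorem goodFibres_of_bijective {X T : Scheme.{u}} (g : X ⟶ T) [QuasiCompact g] [QuasiSeparated g]
    (h0 : ∀ t, Function.Bijective (pullback.snd g (T.fromSpecResidueField t)).appTop) : GoodFibres g := by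
  intro K _ y Z p q h s hs ψ hψ
  obtain ⟨⟨t, a⟩, rfl⟩ : ∃ xf, (Scheme.SpecToEquivOfField K T).symm xf = y :=
    ⟨_, (Scheme.SpecToEquivOfField K T).symm_apply_apply y⟩
  change IsPullback p q g (Spec.map a ≫ T.fromSpecResidueField t) at h
  let b : Z ⟶ pullback g (T.fromSpecResidueField t) :=
    pullback.lift p (q ≫ Spec.map a) (by rw [Category.assoc]; exact h.w)
  have sq : IsPullback b q (pullback.snd g (T.fromSpecResidueField t)) (Spec.map a) := by
    refine IsPullback.of_right ?_ (pullback.lift_snd _ _ _) (IsPullback.of_hasPullback g (T.fromSpecResidueField t))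
    rw [pullback.lift_fst]
    exact h
  have : Flat (Spec.map a) := by
    rw [Flat.SpecMap_iff]
    exact RingHom.Flat.of_isField (Field.toIsField (T.residueField t)) a.hom
  have : QuasiCompact (pullback.snd g (T.fromSpecResidueField t)) := inferInstance
  have : QuasiSeparated (pullback.snd g (T.fromSpecResidueField t)) := inferInstance
  have hc : CompactSpace ↥(pullback g (T.fromSpecResidueField t)) :=
    (quasiCompact_iff_compactSpace (pullback.snd g (T.fromSpecResidueField t))).1 inferInstance
  have hs' : QuasiSeparatedSpace ↥(pullback g (T.fromSpecResidueField t)) :=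
    (quasiSeparated_iff_quasiSeparatedSpace (pullback.snd g (T.fromSpecResidueField t))).1 inferInstance
  have h1 := (isIso_pushoutSection_iff sq (US := ⊤) (UT := ⊤) (UX := ⊤) (UY := ⊤) le_top le_top (by simp)).1
    (isIso_pushoutSection_of_isQuasiSeparated_of_flat_right sq le_top le_top (by simp) (isAffineOpen_top _)
      (isAffineOpen_top _) isCompact_univ isQuasiSeparated_univ)
  have hiso : IsIso ((pullback.snd g (T.fromSpecResidueField t)).appLE ⊤ ⊤ le_top) := by
    rw [show (pullback.snd g (T.fromSpecResidueField t)).appLE ⊤ ⊤ le_top =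
        (pullback.snd g (T.fromSpecResidueField t)).appTop from (Scheme.Hom.app_eq_appLE _).symm,
      ConcreteCategory.isIso_iff_bijective]
    exact h0 t
  have hq : IsIso (q.appLE ⊤ ⊤ le_top) := h1.isIso_inr_of_isIso hiso
  obtain ⟨c, rfl⟩ := ((ConcreteCategory.isIso_iff_bijective _).1 hq).2 ψ
  have e : s.appTop (q.appLE ⊤ ⊤ le_top c) = c := by
    rw [show q.appLE ⊤ ⊤ le_top = q.appTop from (Scheme.Hom.app_eq_appLE q).symm, ← CommRingCat.comp_apply,
      ← Scheme.Hom.comp_appTop, hs]
    rfl
  rw [e] at hψ
  rw [hψ, map_zero]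

end Groth.Agent.Rigid
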