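import Groth.Agent.Rigid.Over
import Groth.Agent.Rigid.Bijective

/-!
# Morphisms with only constant functions on the fibres
-/

universe u

open CategoryTheory CategoryTheory.Limits AlgebraicGeometry

namespace Groth.Agent.Rigid

/-- If every fibre has only constant functions, the morphism is surjective. -/
theorem surjective_of_bijective {X T : Scheme.{u}} (g : X ⟶ T)
    (h0 : ∀ t, Function.Bijective (pullback.snd g (T.fromSpecResidueField t)).appTop) : Surjective g := by
  refine ⟨fun t => ?_⟩
  by_contra hne
  have : IsEmpty ↥(pullback g (T.fromSpecResidueField t)) := ⟨fun z => hne ⟨pullback.fst g _ z, by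
    rw [← Scheme.Hom.comp_apply, pullback.condition, Scheme.Hom.comp_apply, Scheme.fromSpecResidueField_apply]⟩⟩
  have : Subsingleton Γ(pullback g (T.fromSpecResidueField t), ⊤) :=
    ⟨fun a b => TopCat.Presheaf.section_ext (pullback g (T.fromSpecResidueField t)).sheaf ⊤ a b
      fun x _ => isEmptyElim x⟩
  have h1 : (1 : Γ(Spec (T.residueField t), ⊤)) = 0 := (h0 t).1 (Subsingleton.elim _ _)
  exact one_ne_zero (α := T.residueField t)
    (by simpa using congrArg (Scheme.ΓSpecIso (T.residueField t)).hom h1)

end Groth.Agent.Rigid
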