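import Mathlib.RingTheory.Flat.Basic
import Mathlib.RingTheory.Flat.Stability
import Mathlib.RingTheory.Filtration
import Mathlib.RingTheory.TensorProduct.Basic
import Mathlib.Algebra.Module.Torsion.Basic
import Mathlib.RingTheory.Regular.LinearMap
import Mathlib.RingTheory.Localization.AtPrime.Basic
import Mathlib.LinearAlgebra.TensorProduct.RightExactness
import Mathlib.LinearAlgebra.TensorProduct.Pi
import Mathlib.LinearAlgebra.TensorProduct.Quotient
import Mathlib.LinearAlgebra.FiniteDimensional.Basic
import Mathlib.RingTheory.Localization.Submodule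
import Mathlib.RingTheory.LocalRing.ResidueField.Basic

/-!
# Compatible families in a diagram of flat algebras: the Noetherian local case

Given algebras `B i`, `C w` with restriction maps `r w : B (a w) → C w`, `r' w : B (b w) → C w` and an
augmentation `σ : B i₀ → A`, a family `x i ∈ M ⊗ B i` is compatible if the two restrictions agree and
`σ` kills it.  If the residue field has only the zero compatible family then, over a Noetherian local
ring, every compatible family with coefficients in `A` lies in all powers of the maximal ideal.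
-/

universe u v

open TensorProduct

namespace Groth.Agent.Rigid

/-- An element of a tensor product with a finite power is determined by its coordinates. -/
theorem eq_zero_of_proj {A : Type u} [CommRing A] {K : Type u} [AddCommGroup K] [Module A K] {B : Type u}
    [AddCommGroup B] [Module A B] (d : ℕ) (x : (Fin d → K) ⊗[A] B)
    (h : ∀ j, (LinearMap.proj (R := A) (φ := fun _ : Fin d => K) j).rTensor B x = 0) : x = 0 := by
  let e := (TensorProduct.comm A (Fin d → K) B).trans ((TensorProduct.piRight A A B fun _ : Fin d => K))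
  apply e.injective
  rw [map_zero]
  funext j
  have : ∀ z, e z j = TensorProduct.comm A K B
      ((LinearMap.proj (R := A) (φ := fun _ : Fin d => K) j).rTensor B z) := by
    intro z
    induction z using TensorProduct.induction_on with
    | zero => simp
    | add z z' hz hz' => simp [hz, hz']
    | tmul v e' => simp [e]
  rw [this, h, map_zero]; rfl

section Defs

variable {A : Type u} [CommRing A] {ι ω : Type v} {a b : ω → ι} {i₀ : ι}
  {B : ι → Type u} [∀ i, CommRing (B i)] [∀ i, Algebra A (B i)]
  {C : ω → Type u} [∀ w, CommRing (C w)] [∀ w, Algebra A (C w)]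
  (r : ∀ w, B (a w) →ₐ[A] C w) (r' : ∀ w, B (b w) →ₐ[A] C w) (σ : B i₀ →ₐ[A] A)

/-- Compatible families with coefficients in `M`, killed by the augmentation. -/
def Compat (M : Type u) [AddCommGroup M] [Module A M] (x : ∀ i, M ⊗[A] B i) : Prop :=
  (∀ w, (r w).toLinearMap.lTensor M (x (a w)) = (r' w).toLinearMap.lTensor M (x (b w))) ∧
    σ.toLinearMap.lTensor M (x i₀) = 0

/-- Only the zero family is compatible. -/
def Vanish (M : Type u) [AddCommGroup M] [Module A M] : Prop :=
  ∀ x : ∀ i, M ⊗[A] B i, Compat r r' σ M x → x = 0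

variable {r r' σ}

theorem Compat.map {M N : Type u} [AddCommGroup M] [Module A M] [AddCommGroup N] [Module A N]
    (g : M →ₗ[A] N) {x : ∀ i, M ⊗[A] B i} (hx : Compat r r' σ M x) :
    Compat r r' σ N fun i => g.rTensor (B i) (x i) := by
  have key : ∀ {E F : Type u} [AddCommGroup E] [Module A E] [AddCommGroup F] [Module A F]
      (f : E →ₗ[A] F) (z : M ⊗[A] E), f.lTensor N (g.rTensor E z) = g.rTensor F (f.lTensor M z) := by
    intro E F _ _ _ _ f z
    rw [← LinearMap.comp_apply, ← LinearMap.comp_apply, LinearMap.lTensor_comp_rTensor,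
      LinearMap.rTensor_comp_lTensor]
  refine ⟨fun w => ?_, ?_⟩
  · rw [key, key, hx.1 w]
  · rw [key, hx.2, map_zero]

end Defs

section Noetherian

variable {A : Type u} [CommRing A] {ι ω : Type v} {a b : ω → ι} {i₀ : ι}
  {B : ι → Type u} [∀ i, CommRing (B i)] [∀ i, Algebra A (B i)] [∀ i, Module.Flat A (B i)]
  {C : ω → Type u} [∀ w, CommRing (C w)] [∀ w, Algebra A (C w)] [∀ w, Module.Flat A (C w)]
  {r : ∀ w, B (a w) →ₐ[A] C w} {r' : ∀ w, B (b w) →ₐ[A] C w} {σ : B i₀ →ₐ[A] A}

/-- A finite power of a coefficient module with no compatible families has none. -/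
theorem Vanish.pi {K : Type u} [AddCommGroup K] [Module A K] (hK : Vanish r r' σ K) (d : ℕ) :
    Vanish r r' σ (Fin d → K) := fun x hx => funext fun i =>
  eq_zero_of_proj d (x i) fun j => by
    have h : Compat r r' σ K fun i => LinearMap.rTensor (B i)
        (LinearMap.proj (R := A) (φ := fun _ : Fin d => K) j) (x i) :=
      Compat.map (N := K) (LinearMap.proj (R := A) (φ := fun _ : Fin d => K) j) hx
    exact congrFun (hK _ h) i

variable [IsLocalRing A] [IsNoetherianRing A] {K : Type u} [Field K] [Algebra A K]
  (hker : RingHom.ker (algebraMap A K) = IsLocalRing.maximalIdeal A) (hK : Vanish r r' σ K)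
include hker hK

/-- **Compatible families lie in all powers of the maximal ideal.** -/
theorem mem_pow_of_compat (φ : ∀ i, B i) (hcomp : ∀ w, r w (φ (a w)) = r' w (φ (b w)))
    (hσ : σ (φ i₀) = 0) (n : ℕ) :
    ∀ i, φ i ∈ (IsLocalRing.maximalIdeal A ^ n).map (algebraMap A (B i)) := by
  induction n with
  | zero => simp [Ideal.map_top]
  | succ n ih =>
    set m := IsLocalRing.maximalIdeal A with hm
    let I : Ideal A := m ^ n
    let μ : ∀ (E : Type u) [CommRing E] [Algebra A E], I ⊗[A] E →ₗ[A] E := fun E _ _ =>
      (TensorProduct.lid A E).toLinearMap ∘ₗ I.subtype.rTensor E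
    have μ_tmul : ∀ (E : Type u) [CommRing E] [Algebra A E] (v : I) (e : E), μ E (v ⊗ₜ e) = (v : A) • e :=
      fun E _ _ v e => by simp [μ]
    have μ_nat : ∀ {E F : Type u} [CommRing E] [Algebra A E] [CommRing F] [Algebra A F] (f : E →ₐ[A] F)
        (z : I ⊗[A] E), μ F (f.toLinearMap.lTensor I z) = f (μ E z) := by
      intro E F _ _ _ _ f z
      induction z using TensorProduct.induction_on with
      | zero => simp
      | add z z' hz hz' => simp [hz, hz']
      | tmul v e => simp [μ_tmul]
    have μ_inj : ∀ (E : Type u) [CommRing E] [Algebra A E] [Module.Flat A E], Function.Injective (μ E) :=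
      fun E _ _ _ => (TensorProduct.lid A E).injective.comp
        (Module.Flat.rTensor_preserves_injective_linearMap I.subtype I.injective_subtype)
    have μ_range : ∀ (E : Type u) [CommRing E] [Algebra A E] (e : E),
        e ∈ I.map (algebraMap A E) → ∃ z, μ E z = e := by
      intro E _ _ e he
      induction he using Submodule.span_induction with
      | mem e he =>
        obtain ⟨v, hv, rfl⟩ := he
        exact ⟨⟨v, hv⟩ ⊗ₜ 1, by rw [μ_tmul, Algebra.smul_def, mul_one]⟩
      | zero => exact ⟨0, map_zero _⟩
      | add e e' _ _ h h' => exact ⟨h.choose + h'.choose, by rw [map_add, h.choose_spec, h'.choose_spec]⟩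
      | smul c e he' h =>
        obtain ⟨z, rfl⟩ := h
        exact ⟨(LinearMap.mulLeft A c).lTensor I z, by
          clear he'
          induction z using TensorProduct.induction_on with
          | zero => simp
          | add z z' hz hz' => rw [map_add, map_add, hz, hz', map_add, smul_add]
          | tmul v e => simp [μ_tmul]⟩
    choose x hx using fun i => μ_range (B i) (φ i) (ih i)
    have hxc : Compat r r' σ I x := ⟨fun w => μ_inj (C w) (by rw [μ_nat, μ_nat, hx, hx, hcomp w]),
      μ_inj A (by rw [μ_nat, hx, hσ, map_zero])⟩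
    -- coordinates of `I / m I` over the residue field, sent into `K`
    letI : Field (A ⧸ m) := Ideal.Quotient.field m
    let N := ↥I ⧸ (m • ⊤ : Submodule A ↥I)
    haveI : Module.Finite (A ⧸ m) N := Module.Finite.of_restrictScalars_finite A (A ⧸ m) N
    let π : ↥I →ₗ[A] N := Submodule.mkQ _
    let β := Module.finBasis (A ⧸ m) N
    let ψ : A ⧸ m →+* K := Ideal.Quotient.lift m (algebraMap A K) fun c hc => by rwa [← RingHom.mem_ker, hker]
    let g₀ : N →ₗ[A] (Fin (Module.finrank (A ⧸ m) N) → K) :=
      { toFun := fun v j => ψ (β.repr v j)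
        map_add' := fun v v' => by funext j; simp
        map_smul' := fun c v => by
          funext j
          have e : c • v = (Ideal.Quotient.mk m c) • v := by
            induction v using Submodule.Quotient.induction_on with | _ v => rfl
          simp only [e, map_smul, Finsupp.coe_smul, Pi.smul_apply, smul_eq_mul, map_mul, RingHom.id_apply]
          rw [Algebra.smul_def]
          rfl }
    have hg₀ : Function.Injective g₀ := fun v v' h => β.repr.injective (Finsupp.ext fun j =>
      ψ.injective (congrFun h j))
    intro i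
    have h1 : g₀.rTensor (B i) (π.rTensor (B i) (x i)) = 0 := by
      rw [← LinearMap.comp_apply, ← LinearMap.rTensor_comp]
      exact congrFun ((hK.pi _) _ (hxc.map (g₀ ∘ₗ π))) i
    have h2 : π.rTensor (B i) (x i) = 0 :=
      Module.Flat.rTensor_preserves_injective_linearMap g₀ hg₀ (by rw [h1, map_zero])
    obtain ⟨z, hz⟩ := (rTensor_exact (B i) (LinearMap.exact_subtype_mkQ (m • ⊤ : Submodule A ↥I))
      (Submodule.mkQ_surjective _) (x i)).1 h2
    rw [← hx i, ← hz]
    clear hz h1 h2
    induction z using TensorProduct.induction_on with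
    | zero => simp
    | add z z' hz hz' => simp only [map_add]; exact add_mem hz hz'
    | tmul v e =>
      rw [LinearMap.rTensor_tmul, μ_tmul, Algebra.smul_def]
      refine Ideal.mul_mem_right _ _ (Ideal.mem_map_of_mem _ ?_)
      have hv : ((v : I) : A) ∈ (m • ⊤ : Submodule A ↥I).map I.subtype := ⟨_, v.2, rfl⟩
      rwa [Submodule.map_smul'', Submodule.map_top, Submodule.range_subtype, smul_eq_mul, ← pow_succ'] at hv

/-- Compatible families vanish near the primes over the maximal ideal. -/
theorem exists_mul_eq_zero_of_compat (φ : ∀ i, B i) (hcomp : ∀ w, r w (φ (a w)) = r' w (φ (b w)))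
    (hσ : σ (φ i₀) = 0) (i : ι) [IsNoetherianRing (B i)] (Q : Ideal (B i)) [Q.IsPrime]
    (hQ : (IsLocalRing.maximalIdeal A).map (algebraMap A (B i)) ≤ Q) :
    ∃ s ∉ Q, s * φ i = 0 := by
  let L := Localization.AtPrime Q
  haveI : IsNoetherianRing L := IsLocalization.isNoetherianRing Q.primeCompl L inferInstance
  have h : algebraMap (B i) L (φ i) = 0 := by
    have hb := Ideal.iInf_pow_eq_bot_of_isLocalRing (IsLocalRing.maximalIdeal L)
      (IsLocalRing.maximalIdeal.isMaximal L).ne_top
    have : algebraMap (B i) L (φ i) ∈ ⨅ n : ℕ, IsLocalRing.maximalIdeal L ^ n := by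
      refine Submodule.mem_iInf _ |>.2 fun n => ?_
      have h1 := mem_pow_of_compat hker hK φ hcomp hσ n i
      rw [Ideal.map_pow] at h1
      have h2 := Ideal.mem_map_of_mem (algebraMap (B i) L) h1
      rw [Ideal.map_pow] at h2
      refine Ideal.pow_right_mono ((Ideal.map_mono hQ).trans ?_) n h2
      rw [Localization.AtPrime.map_eq_maximalIdeal]
    rwa [hb, Submodule.mem_bot] at this
  obtain ⟨s, hs⟩ := (IsLocalization.map_eq_zero_iff Q.primeCompl L _).1 h
  exact ⟨s, s.2, hs⟩

end Noetherian

end Groth.Agent.Rigid
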