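import Groth.Agent.Rigid.Stage
import Mathlib.RingTheory.Localization.Finiteness
import Mathlib.RingTheory.Adjoin.FG
import Mathlib.RingTheory.Flat.Stability

/-!
# Compatible families vanish near primes with trivial residual families, over any base
-/

universe u v

open TensorProduct

namespace Groth.Agent.Rigid

/-- A finite set of a ring lies in a Noetherian local subring with the induced maximal ideal. -/
theorem exists_local_subalgebra {A : Type u} [CommRing A] [IsLocalRing A] (P : Finset A) :
    ∃ D : Subalgebra ℤ A, (P : Set A) ⊆ D ∧ IsNoetherianRing D ∧ IsLocalRing D ∧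
      ∀ d : D, IsUnit (d : A) → IsUnit d := by
  let D₀ := Algebra.adjoin ℤ (P : Set A)
  have : IsNoetherianRing D₀ := isNoetherianRing_of_fg (Subalgebra.fg_adjoin_finset P)
  let M : Submonoid D₀ := (IsUnit.submonoid A).comap (D₀.val : D₀ →* A)
  let L := Localization M
  have : IsNoetherianRing L := IsLocalization.isNoetherianRing M L inferInstance
  let f : L →+* A := IsLocalization.lift (M := M) (g := D₀.val.toRingHom) fun s => s.2
  refine ⟨subalgebraOfSubring f.range, fun a ha => ?_, ?_, ?_⟩
  · exact ⟨algebraMap D₀ L ⟨a, Algebra.subset_adjoin ha⟩, IsLocalization.lift_eq _ _⟩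
  · exact inferInstanceAs (IsNoetherianRing f.range)
  · have hu : ∀ d : subalgebraOfSubring f.range, IsUnit (d : A) → IsUnit d := by
      rintro ⟨d, l, rfl⟩ hd
      obtain ⟨⟨a, s⟩, hl⟩ := IsLocalization.surj M l
      have hfl : f l * ((s : D₀) : A) = (a : A) := by
        have e := congrArg f hl
        rw [map_mul] at e
        rw [show f (algebraMap D₀ L s) = ((s : D₀) : A) from IsLocalization.lift_eq _ _,
          show f (algebraMap D₀ L a) = (a : A) from IsLocalization.lift_eq _ _] at e
        exact e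
      have ha : a ∈ M := by
        change IsUnit (a : A)
        rw [← hfl]
        exact IsUnit.mul hd s.2
      refine IsUnit.map (f.rangeRestrict : L →+* f.range) (x := l) ?_
      refine isUnit_of_mul_isUnit_left (y := algebraMap D₀ L s) ?_
      rw [hl]
      exact IsLocalization.map_units L ⟨a, ha⟩
    refine ⟨?_, hu⟩
    haveI : Nontrivial (subalgebraOfSubring f.range) :=
      nontrivial_of_ne 0 1 fun h => zero_ne_one (congrArg Subtype.val h)
    refine IsLocalRing.of_nonunits_add fun {x y} hx hy h => ?_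
    have h' : IsUnit ((x : A) + (y : A)) := h.map (subalgebraOfSubring f.range).val
    rcases IsLocalRing.isUnit_or_isUnit_of_isUnit_add h' with h'' | h''
    exacts [hx (hu x h''), hy (hu y h'')]

section Local

variable {A : Type u} [CommRing A] {ι ω : Type v} [Finite ι] [Finite ω] {a b : ω → ι} {i₀ : ι}
  {B : ι → Type u} [∀ i, CommRing (B i)] [∀ i, Algebra A (B i)] [∀ i, Module.Flat A (B i)]
  [∀ i, Algebra.FinitePresentation A (B i)]
  {C : ω → Type u} [∀ w, CommRing (C w)] [∀ w, Algebra A (C w)] [∀ w, Module.Flat A (C w)]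
  [∀ w, Algebra.FinitePresentation A (C w)]
  {r : ∀ w, B (a w) →ₐ[A] C w} {r' : ∀ w, B (b w) →ₐ[A] C w} {σ : B i₀ →ₐ[A] A}
  {K : Type u} [Field K] [Algebra A K]

/-- The local case. -/
theorem exists_mul_eq_zero_local [IsLocalRing A]
    (hker : RingHom.ker (algebraMap A K) = IsLocalRing.maximalIdeal A) (hK : Vanish r r' σ K)
    (φ : ∀ i, B i) (hcomp : ∀ w, r w (φ (a w)) = r' w (φ (b w))) (hσ : σ (φ i₀) = 0)
    (i : ι) (Q : Ideal (B i)) [Q.IsPrime]
    (hQ : (IsLocalRing.maximalIdeal A).map (algebraMap A (B i)) ≤ Q) : ∃ s ∉ Q, s * φ i = 0 := by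
  classical
  cases nonempty_fintype ι
  cases nonempty_fintype ω
  choose G P hG hP using fun i => exists_stage (A := A) (B i)
  choose G' P' hG' hP' using fun w => exists_stage (A := A) (C w)
  choose Pφ hPφ using fun i => exists_mem_stage (B i) (hG i) (φ i)
  choose Pr hPr using fun (w : ω) (g : G (a w)) => exists_mem_stage (C w) (hG' w) (r w g)
  choose Pr' hPr' using fun (w : ω) (g : G (b w)) => exists_mem_stage (C w) (hG' w) (r' w g)
  let All : Finset A := Finset.univ.biUnion P ∪ Finset.univ.biUnion P' ∪ Finset.univ.biUnion Pφ ∪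
    Finset.univ.biUnion (fun w => Finset.univ.biUnion (Pr w)) ∪
    Finset.univ.biUnion (fun w => Finset.univ.biUnion (Pr' w)) ∪ (G i₀).image σ
  obtain ⟨D, hD, _, _, hu⟩ := exists_local_subalgebra All
  have sub : ∀ {s : Finset A}, s ⊆ All → (s : Set A) ⊆ D := fun h => (Finset.coe_subset.2 h).trans hD
  have inP : ∀ i, P i ⊆ All := fun i x hx => Finset.mem_union_left _ (Finset.mem_union_left _
    (Finset.mem_union_left _ (Finset.mem_union_left _ (Finset.mem_union_left _
      (Finset.mem_biUnion.2 ⟨i, Finset.mem_univ _, hx⟩)))))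
  have inP' : ∀ w, P' w ⊆ All := fun w x hx => Finset.mem_union_left _ (Finset.mem_union_left _
    (Finset.mem_union_left _ (Finset.mem_union_left _ (Finset.mem_union_right _
      (Finset.mem_biUnion.2 ⟨w, Finset.mem_univ _, hx⟩)))))
  have inφ : ∀ i, Pφ i ⊆ All := fun i x hx => Finset.mem_union_left _ (Finset.mem_union_left _
    (Finset.mem_union_left _ (Finset.mem_union_right _ (Finset.mem_biUnion.2 ⟨i, Finset.mem_univ _, hx⟩))))
  have inr : ∀ w g, Pr w g ⊆ All := fun w g x hx => Finset.mem_union_left _ (Finset.mem_union_left _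
    (Finset.mem_union_right _
      (Finset.mem_biUnion.2 ⟨w, Finset.mem_univ _, Finset.mem_biUnion.2 ⟨g, Finset.mem_univ _, hx⟩⟩)))
  have inr' : ∀ w g, Pr' w g ⊆ All := fun w g x hx => Finset.mem_union_left _ (Finset.mem_union_right _
      (Finset.mem_biUnion.2 ⟨w, Finset.mem_univ _, Finset.mem_biUnion.2 ⟨g, Finset.mem_univ _, hx⟩⟩))
  let B₀ := fun i => stage (B i) D (G i : Set (B i))
  let C₀ := fun w => stage (C w) D (G' w : Set (C w))
  have hB := fun i => hP i D (sub (inP i))
  have hC := fun w => hP' w D (sub (inP' w))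
  haveI : ∀ i, Module.Flat D (B₀ i) := fun i => (hB i).1
  haveI : ∀ w, Module.Flat D (C₀ w) := fun w => (hC w).1
  have hr : ∀ w, ∀ x : B₀ (a w), r w (x : B (a w)) ∈ C₀ w := fun w x => by
    refine (Algebra.adjoin_le (S := (C₀ w).comap ((r w).restrictScalars D)) fun g hg => ?_) x.2
    exact hPr w ⟨g, hg⟩ D (sub (inr w _))
  have hr' : ∀ w, ∀ x : B₀ (b w), r' w (x : B (b w)) ∈ C₀ w := fun w x => by
    refine (Algebra.adjoin_le (S := (C₀ w).comap ((r' w).restrictScalars D)) fun g hg => ?_) x.2
    exact hPr' w ⟨g, hg⟩ D (sub (inr' w _))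
  have hσD : ∀ x : B₀ i₀, σ (x : B i₀) ∈ D := fun x => by
    have h : (x : B i₀) ∈ (IsScalarTower.toAlgHom D D A).range.comap (σ.restrictScalars D) :=
      (Algebra.adjoin_le (S := (IsScalarTower.toAlgHom D D A).range.comap (σ.restrictScalars D)) fun g hg => by
        exact ⟨⟨σ g, sub (s := (G i₀).image σ) Finset.subset_union_right
          (Finset.mem_image_of_mem σ hg)⟩, rfl⟩) x.2
    obtain ⟨d, hd⟩ := h
    exact (show (d : A) = σ (x : B i₀) from hd) ▸ d.2
  let r₀ : ∀ w, B₀ (a w) →ₐ[D] C₀ w := fun w =>
    (((r w).restrictScalars D).comp (B₀ (a w)).val).codRestrict (C₀ w) (hr w)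
  let r₀' : ∀ w, B₀ (b w) →ₐ[D] C₀ w := fun w =>
    (((r' w).restrictScalars D).comp (B₀ (b w)).val).codRestrict (C₀ w) (hr' w)
  let σ₀ : B₀ i₀ →ₐ[D] D :=
    { toRingHom := (σ.toRingHom.comp (B₀ i₀).val.toRingHom).codRestrict D hσD
      commutes' := fun d => Subtype.ext (σ.commutes (d : A)) }
  have hK₀ : Vanish (a := a) (b := b) (i₀ := i₀) (B := fun i => B₀ i) (C := fun w => C₀ w) r₀ r₀' σ₀ K := by
    intro x hx
    have hinj := fun i => ((hB i).2 K).1
    have hinjC := fun w => ((hC w).2 K).1
    funext i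
    refine hinj i ?_
    rw [Pi.zero_apply, map_zero]
    refine congrFun (hK (fun i => theta A D (B₀ i).val.toLinearMap K (x i)) ⟨fun w => ?_, ?_⟩) i
    · rw [← theta_natural D (B₀ (a w)).val.toLinearMap (C₀ w).val.toLinearMap (r₀ w).toLinearMap
          (r w).toLinearMap (fun _ => rfl) K (x (a w)),
        ← theta_natural D (B₀ (b w)).val.toLinearMap (C₀ w).val.toLinearMap (r₀' w).toLinearMap
          (r' w).toLinearMap (fun _ => rfl) K (x (b w)), hx.1 w]
    · apply (TensorProduct.rid A K).injective
      rw [map_zero, theta_rid D (B₀ i₀).val.toLinearMap σ₀.toLinearMap σ.toLinearMap (fun _ => rfl) K (x i₀),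
        hx.2, map_zero]
  have hkerD : RingHom.ker (algebraMap D K) = IsLocalRing.maximalIdeal D := by
    ext d
    rw [RingHom.mem_ker, IsLocalRing.mem_maximalIdeal, mem_nonunits_iff,
      IsScalarTower.algebraMap_apply D A K, ← RingHom.mem_ker, hker, IsLocalRing.mem_maximalIdeal, mem_nonunits_iff]
    exact not_congr ⟨hu d, fun h => h.map (algebraMap D A)⟩
  let φ₀ : ∀ i, B₀ i := fun i =>
    ⟨φ i, hPφ i D (sub (inφ i))⟩
  haveI : Algebra.FiniteType D (B₀ i) :=
    (Subalgebra.fg_iff_finiteType _).1 (Subalgebra.fg_adjoin_finset (G i))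
  haveI : IsNoetherianRing (B₀ i) := Algebra.FiniteType.isNoetherianRing D _
  obtain ⟨s, hs, hs'⟩ := exists_mul_eq_zero_of_compat hkerD hK₀ φ₀ (fun w => Subtype.ext (hcomp w))
    (Subtype.ext hσ) i (Q.comap (B₀ i).val.toRingHom) (Ideal.map_le_iff_le_comap.2 fun d hd => by
      refine hQ (Ideal.mem_map_of_mem _ (?_ : (d : A) ∈ IsLocalRing.maximalIdeal A))
      rw [← hker, RingHom.mem_ker]
      rw [← hkerD, RingHom.mem_ker] at hd
      exact hd)
  exact ⟨s, hs, congrArg Subtype.val hs'⟩

/-- **Compatible families vanish near the primes over `p`** if there are no nonzero compatible families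
with coefficients in a field extension `K` of the residue field at `p`. -/
theorem exists_mul_eq_zero (p : Ideal A) [p.IsPrime] (hker : RingHom.ker (algebraMap A K) = p)
    (hK : Vanish r r' σ K)
    (φ : ∀ i, B i) (hcomp : ∀ w, r w (φ (a w)) = r' w (φ (b w))) (hσ : σ (φ i₀) = 0)
    (i : ι) (Q : Ideal (B i)) [Q.IsPrime]
    (hQ : Q.comap (algebraMap A (B i)) = p) : ∃ s ∉ Q, s * φ i = 0 := by
  let A' := Localization.AtPrime p
  have hunit : ∀ s : p.primeCompl, IsUnit (algebraMap A K s) := fun s =>
    isUnit_iff_ne_zero.2 fun h => s.2 (hker ▸ (RingHom.mem_ker.2 h : (s : A) ∈ RingHom.ker (algebraMap A K)))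
  letI : Algebra A' K := (IsLocalization.lift (S := A') hunit).toAlgebra
  haveI : IsScalarTower A A' K := IsScalarTower.of_algebraMap_eq fun x => by
    rw [RingHom.algebraMap_toAlgebra, IsLocalization.lift_eq]
  have hker' : RingHom.ker (algebraMap A' K) = IsLocalRing.maximalIdeal A' := by
    ext x
    obtain ⟨c, t, rfl⟩ := IsLocalization.exists_mk'_eq p.primeCompl x
    rw [RingHom.mem_ker, IsLocalization.AtPrime.mk'_mem_maximal_iff A' p]
    simp only [← hker, RingHom.mem_ker]
    have ht := congrArg (algebraMap A' K) (IsLocalization.mk'_spec A' c t)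
    rw [map_mul, ← IsScalarTower.algebraMap_apply, ← IsScalarTower.algebraMap_apply] at ht
    rw [← ht, mul_eq_zero]
    exact ⟨Or.inl, fun h => h.resolve_right (hunit t).ne_zero⟩
  let B' := fun i => A' ⊗[A] B i
  let C' := fun w => A' ⊗[A] C w
  let r₁ : ∀ w, B' (a w) →ₐ[A'] C' w := fun w => Algebra.TensorProduct.map (AlgHom.id A' A') (r w)
  let r₁' : ∀ w, B' (b w) →ₐ[A'] C' w := fun w => Algebra.TensorProduct.map (AlgHom.id A' A') (r' w)
  let σ₁ : B' i₀ →ₐ[A'] A' :=
    (Algebra.TensorProduct.rid A A' A').toAlgHom.comp (Algebra.TensorProduct.map (AlgHom.id A' A') σ)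
  have hK₁ : Vanish (a := a) (b := b) (i₀ := i₀) (B := B') (C := C') r₁ r₁' σ₁ K := by
    intro x hx
    funext i
    refine (AlgebraTensorModule.cancelBaseChange A A' A' K (B i)).injective ?_
    rw [Pi.zero_apply, map_zero]
    refine congrFun (hK (fun i => AlgebraTensorModule.cancelBaseChange A A' A' K (B i) (x i))
      ⟨fun w => ?_, ?_⟩) i
    · have n1 : ∀ z, (r w).toLinearMap.lTensor K (AlgebraTensorModule.cancelBaseChange A A' A' K (B (a w)) z) =
          AlgebraTensorModule.cancelBaseChange A A' A' K (C w) ((r₁ w).toLinearMap.lTensor K z) := fun z => by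
        induction z using TensorProduct.induction_on with
        | zero => simp
        | add z z' hz hz' => simp only [map_add, hz, hz']
        | tmul k e =>
          induction e using TensorProduct.induction_on with
          | zero => simp
          | add e e' he he' => simp only [tmul_add, map_add, he, he']
          | tmul c e => exact (rfl : (c • k) ⊗ₜ[A] r w e = (c • k) ⊗ₜ[A] r w e)
      have n2 : ∀ z, (r' w).toLinearMap.lTensor K (AlgebraTensorModule.cancelBaseChange A A' A' K (B (b w)) z) =
          AlgebraTensorModule.cancelBaseChange A A' A' K (C w) ((r₁' w).toLinearMap.lTensor K z) := fun z => by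
        induction z using TensorProduct.induction_on with
        | zero => simp
        | add z z' hz hz' => simp only [map_add, hz, hz']
        | tmul k e =>
          induction e using TensorProduct.induction_on with
          | zero => simp
          | add e e' he he' => simp only [tmul_add, map_add, he, he']
          | tmul c e => exact (rfl : (c • k) ⊗ₜ[A] r' w e = (c • k) ⊗ₜ[A] r' w e)
      rw [n1, n2, hx.1 w]
    · have n3 : ∀ z, TensorProduct.rid A K (σ.toLinearMap.lTensor K
          (AlgebraTensorModule.cancelBaseChange A A' A' K (B i₀) z)) =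
          TensorProduct.rid A' K (σ₁.toLinearMap.lTensor K z) := fun z => by
        induction z using TensorProduct.induction_on with
        | zero => simp
        | add z z' hz hz' => simp only [map_add, hz, hz']
        | tmul k e =>
          induction e using TensorProduct.induction_on with
          | zero => simp
          | add e e' he he' => simp only [tmul_add, map_add, he, he']
          | tmul c e =>
            have e₁ : σ₁ (c ⊗ₜ[A] e) = σ e • c := Algebra.TensorProduct.rid_tmul (R := A) (S := A') (A := A') _ _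
            simp only [LinearMap.lTensor_tmul, AlgebraTensorModule.cancelBaseChange_tmul, TensorProduct.rid_tmul,
              AlgHom.toLinearMap_apply, e₁]
            rw [smul_assoc]
      apply (TensorProduct.rid A K).injective
      rw [n3, hx.2, map_zero, map_zero]
  let φ₁ : ∀ i, B' i := fun i => 1 ⊗ₜ φ i
  let L := Localization.AtPrime Q
  have hunitL : ∀ s : p.primeCompl, IsUnit (algebraMap A L s) := fun s => by
    rw [IsScalarTower.algebraMap_apply A (B i) L]
    exact IsLocalization.map_units (M := Q.primeCompl) L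
      ⟨algebraMap A (B i) s, fun h => s.2 (hQ.le (Ideal.mem_comap.2 h))⟩
  let g : A' →ₐ[A] L := IsLocalization.liftAlgHom (f := Algebra.ofId A L) hunitL
  let h : B' i →ₐ[A] L :=
    Algebra.TensorProduct.lift g (IsScalarTower.toAlgHom A (B i) L) fun _ _ => Commute.all _ _
  have h_tmul : ∀ (c : A') (e : B i), h (c ⊗ₜ[A] e) = g c * algebraMap (B i) L e := fun c e =>
    Algebra.TensorProduct.lift_tmul ..
  have σ₁_tmul : ∀ (c : A') (e : B i₀), σ₁ (c ⊗ₜ[A] e) = σ e • c := fun c e =>
    Algebra.TensorProduct.rid_tmul (R := A) (S := A') (A := A') _ _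
  obtain ⟨s, hs, hs'⟩ := exists_mul_eq_zero_local hker' hK₁ φ₁
    (fun w => congrArg (fun z => (1 : A') ⊗ₜ[A] z) (hcomp w))
    (by rw [σ₁_tmul, hσ, zero_smul]) i ((IsLocalRing.maximalIdeal L).comap h.toRingHom) (by
      rw [← Localization.AtPrime.map_eq_maximalIdeal (I := p), Ideal.map_map, Ideal.map_le_iff_le_comap]
      intro x hx
      rw [Ideal.mem_comap, Ideal.mem_comap, RingHom.comp_apply]
      have e : h.toRingHom (algebraMap A' (B' i) (algebraMap A A' x)) = algebraMap (B i) L (algebraMap A (B i) x) := by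
        change h ((algebraMap A A' x) ⊗ₜ 1) = _
        rw [h_tmul, map_one, mul_one, AlgHom.commutes, ← IsScalarTower.algebraMap_apply]
      rw [e, IsLocalization.AtPrime.to_map_mem_maximal_iff L Q, ← Ideal.mem_comap, hQ]
      exact hx)
  have h0 : algebraMap (B i) L (φ i) = 0 := by
    have hsu : IsUnit (h s) := not_not.1 fun hn => hs ((IsLocalRing.mem_maximalIdeal _).2 hn)
    have e := congrArg h hs'
    rw [map_mul, map_zero, hsu.mul_right_eq_zero] at e
    rw [h_tmul, map_one, one_mul] at e
    exact e
  obtain ⟨t, ht⟩ := (IsLocalization.map_eq_zero_iff Q.primeCompl L _).1 h0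
  exact ⟨t, t.2, ht⟩

end Local

end Groth.Agent.Rigid
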